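import Mathlib

/-!
# Functions of bounded degree on `(ZMod 2)^d` have even weight (Chevalley–Warning for quadrics)
-/

set_option autoImplicit false
set_option linter.unusedSectionVars false

namespace Cfsg.Agent.Suzuki2

variable {V W : Type*} [AddCommGroup V] [AddCommGroup W]

/-- `f` has degree at most `m`: all `(m+1)`-th differences vanish. -/
def DegLE : ℕ → (V → ZMod 2) → Prop
  | 0, f => ∀ a x, f (x + a) + f x = 0
  | m + 1, f => ∀ a, DegLE m fun x => f (x + a) + f x

theorem DegLE.succ : ∀ {m : ℕ} {f : V → ZMod 2}, DegLE m f → DegLE (m + 1) f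
  | 0, _, h => fun a b x => by simp [h a]
  | _ + 1, _, h => fun a => DegLE.succ (h a)

theorem DegLE.mono {m m' : ℕ} {f : V → ZMod 2} (h : DegLE m f) (hle : m ≤ m') : DegLE m' f := by
  induction hle with
  | refl => exact h
  | step _ ih => exact ih.succ

theorem DegLE.translate : ∀ {m : ℕ} {f : V → ZMod 2}, DegLE m f → ∀ v, DegLE m fun x => f (x + v)
  | 0, _, h => fun v a x => by simpa [add_right_comm] using h a (x + v)
  | _ + 1, _, h => fun v a => by simpa [add_right_comm] using DegLE.translate (h a) v

theorem DegLE.add : ∀ {m : ℕ} {f g : V → ZMod 2}, DegLE m f → DegLE m g →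
    DegLE m fun x => f x + g x
  | 0, f, g, hf, hg => fun a x => by linear_combination hf a x + hg a x
  | _ + 1, f, g, hf, hg => fun a => by
      have h := DegLE.add (hf a) (hg a)
      have e : (fun x => f (x + a) + g (x + a) + (f x + g x)) =
          fun x => f (x + a) + f x + (g (x + a) + g x) := by funext x; ring
      rw [e]; exact h

theorem DegLE.comp : ∀ {m : ℕ} {f : V → ZMod 2}, DegLE m f → ∀ φ : W →+ V, DegLE m fun x => f (φ x)
  | 0, _, h => fun φ a x => by simpa using h (φ a) (φ x)
  | _ + 1, _, h => fun φ a => by simpa using DegLE.comp (h (φ a)) φ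

theorem degLE_const : ∀ (m : ℕ) (c : ZMod 2), DegLE m fun _ : V => c
  | 0, c => fun _ _ => CharTwo.add_self_eq_zero c
  | m + 1, c => fun _ => degLE_const m _

theorem DegLE.const_mul : ∀ {m : ℕ} {f : V → ZMod 2}, DegLE m f → ∀ c, DegLE m fun x => c * f x
  | 0, _, h => fun c a x => by rw [← mul_add, h, mul_zero]
  | _ + 1, f, h => fun c a => by simpa [mul_add] using DegLE.const_mul (h a) c

theorem DegLE.mul : ∀ (a b : ℕ) {f g : V → ZMod 2}, DegLE a f → DegLE b g →
    DegLE (a + b) fun x => f x * g x
  | 0, b, f, g, hf, hg => by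
      have e : (fun x => f x * g x) = fun x => f 0 * g x := by
        funext x
        have h := hf x 0
        rw [zero_add] at h
        rw [CharTwo.add_eq_zero.1 h]
      rw [Nat.zero_add, e]
      exact hg.const_mul _
  | a + 1, 0, f, g, hf, hg => by
      have e : (fun x => f x * g x) = fun x => g 0 * f x := by
        funext x
        have h := hg x 0
        rw [zero_add] at h
        rw [CharTwo.add_eq_zero.1 h, mul_comm]
      rw [e]
      exact hf.const_mul _
  | a + 1, b + 1, f, g, hf, hg => fun v => by
      have h1 := DegLE.mul a (b + 1) (hf v) (hg.translate v)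
      have h2 := DegLE.mul (a + 1) b hf (hg v)
      rw [← Nat.add_assoc] at h1
      have h2' : DegLE (a + b + 1) fun x => f x * (g (x + v) + g x) := by
        rwa [show a + 1 + b = a + b + 1 by omega] at h2
      have h := h1.add h2'
      have e : (fun x => f (x + v) * g (x + v) + f x * g x) =
          fun x => (f (x + v) + f x) * g (x + v) + f x * (g (x + v) + g x) := by
        funext x
        linear_combination -(f x * g (x + v)) * (CharTwo.two_eq_zero : (2 : ZMod 2) = 0)
      have e2 : a + 1 + b = a + b + 1 := by omega
      show DegLE (a + 1 + b) _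
      rw [e2, e]
      exact h
  termination_by a b => a + b

theorem DegLE.prod {ι : Type*} (s : Finset ι) (F : ι → V → ZMod 2) {k : ℕ}
    (h : ∀ i ∈ s, DegLE k (F i)) : DegLE (k * s.card) fun x => ∏ i ∈ s, F i x := by
  classical
  induction s using Finset.induction_on with
  | empty => simpa using degLE_const (V := V) 0 1
  | @insert a s ha ih =>
    rw [Finset.card_insert_of_notMem ha, Nat.mul_succ, Nat.add_comm]
    simp only [Finset.prod_insert ha]
    exact DegLE.mul _ _ (h a (Finset.mem_insert_self a s))
      (ih fun i hi => h i (Finset.mem_insert_of_mem hi))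

/-- A function of degree less than `d` on `(ZMod 2)^d` has even weight. -/
theorem sum_eq_zero_of_degLE : ∀ {d m : ℕ} {f : (Fin d → ZMod 2) → ZMod 2},
    DegLE m f → m < d → ∑ x, f x = 0 := by
  intro d
  induction d with
  | zero => intro m f _ h; omega
  | succ d ih =>
    intro m f hf hm
    let e : Fin (d + 1) → ZMod 2 := Fin.cons 1 0
    let j : (Fin d → ZMod 2) →+ (Fin (d + 1) → ZMod 2) :=
      { toFun := fun y => Fin.cons 0 y
        map_zero' := Fin.cons_self_tail (α := fun _ => ZMod 2) 0
        map_add' := fun y y' => by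
          funext i
          refine Fin.cases ?_ (fun k => ?_) i <;> simp }
    have hsplit : ∑ x, f x = ∑ y, (f (j y + e) + f (j y)) := by
      rw [← (Fin.consEquiv (fun _ => ZMod 2)).sum_comp, Fintype.sum_prod_type,
        show (Finset.univ : Finset (ZMod 2)) = {0, 1} from rfl, Finset.sum_pair zero_ne_one,
        ← Finset.sum_add_distrib]
      refine Finset.sum_congr rfl fun y _ => ?_
      rw [add_comm]
      congr 2
      funext i
      refine Fin.cases ?_ (fun k => ?_) i <;> simp [j, e, Fin.consEquiv] <;> rfl
    rw [hsplit]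
    cases m with
    | zero => exact Finset.sum_eq_zero fun y _ => hf e (j y)
    | succ m => exact ih ((hf e).comp j) (by omega)

end Cfsg.Agent.Suzuki2
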