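import Cfsg.Agent.Suzuki2.Higman
import Cfsg.Agent.Suzuki2.Degree

/-!
# Suzuki 2-groups: the order is `q²` or `q³` and the exponent is four
-/

set_option autoImplicit false
set_option linter.unusedSectionVars false

namespace Cfsg.Agent.Suzuki2

variable {P : Type*} [Group P] {σ : MulAut P}

theorem Data.orderOf_add_one (hd : Data σ) :
    orderOf σ + 1 = Nat.card (invSubgroup hd) := by
  haveI := hd.finite
  haveI : Finite (MulAut P) := Finite.of_injective _ (DFunLike.coe_injective (F := MulAut P))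
  classical
  obtain ⟨x₀, -, -, hx1, hx2, -, -⟩ := hd.two
  let g : Option (Fin (orderOf σ)) → invSubgroup hd := fun o => o.elim 1 fun i =>
    ⟨(σ ^ (i : ℕ)) x₀, show _ * _ = (1 : P) by rw [← map_mul, hx2, map_one]⟩
  have hne : ∀ i : ℕ, (σ ^ i) x₀ ≠ 1 := fun i h => hx1 (EmbeddingLike.map_eq_one_iff.1 h)
  have hinj : ∀ i j : ℕ, j < orderOf σ → i ≤ j → (σ ^ i) x₀ = (σ ^ j) x₀ → i = j := by
    intro i j hj hij h
    have h1 : (σ ^ (j - i)) ((σ ^ i) x₀) = (σ ^ i) x₀ := by
      rw [← MulAut.mul_apply, ← pow_add, Nat.sub_add_cancel hij, ← h]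
    have h2 := hd.regular (j - i) _ (hne i) (by rw [← map_mul, hx2, map_one]) h1
    have h3 := Nat.eq_zero_of_dvd_of_lt (orderOf_dvd_of_pow_eq_one h2) (by omega)
    omega
  have hg : Function.Bijective g := by
    constructor
    · rintro (_ | i) (_ | j) h
      · rfl
      · exact absurd (congrArg Subtype.val h).symm (hne j)
      · exact absurd (congrArg Subtype.val h) (hne i)
      · have h' : (σ ^ (i : ℕ)) x₀ = (σ ^ (j : ℕ)) x₀ := congrArg Subtype.val h
        refine congrArg some (Fin.ext ?_)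
        rcases le_total (i : ℕ) j with hij | hij
        · exact hinj _ _ j.2 hij h'
        · exact (hinj _ _ i.2 hij h'.symm).symm
    · rintro ⟨u, hu⟩
      by_cases hu1 : u = 1
      · exact ⟨none, Subtype.ext hu1.symm⟩
      obtain ⟨i, hi⟩ := hd.trans x₀ u hx1 hx2 hu1 hu
      exact ⟨some ⟨i % orderOf σ, Nat.mod_lt _ (orderOf_pos σ)⟩,
        Subtype.ext (by show (σ ^ (i % orderOf σ)) x₀ = u; rw [pow_mod_orderOf]; exact hi)⟩
  rw [← Nat.card_eq_of_bijective g hg, Finite.card_option, Nat.card_fin]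

variable (hd : Data σ)
include hd

theorem orderOf_dvd_sub :
    orderOf σ ∣ Nat.card P - Nat.card (Subgroup.center P) := by
  haveI := hd.finite
  haveI : Finite (MulAut P) := Finite.of_injective _ (DFunLike.coe_injective (F := MulAut P))
  classical
  let X := {x : P // x ∉ Subgroup.center P}
  let H := Subgroup.zpowers σ
  have hmem : ∀ h : H, ∀ x : P, x ∉ Subgroup.center P → (h : MulAut P) x ∉ Subgroup.center P := by
    intro h x hx hc
    refine hx (Subgroup.mem_center_iff.2 fun y => ?_)
    apply (h : MulAut P).injective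
    rw [map_mul, map_mul, Subgroup.mem_center_iff.1 hc]
  letI : MulAction H X :=
    { smul := fun h x => ⟨(h : MulAut P) x.1, hmem h x.1 x.2⟩
      one_smul := fun x => Subtype.ext rfl
      mul_smul := fun h h' x => Subtype.ext rfl }
  have hfree : ∀ x : X, MulAction.stabilizer H x = ⊥ := by
    intro x
    refine (Subgroup.eq_bot_iff_forall _).2 ?_
    rintro ⟨h, hh⟩ hx
    obtain ⟨i, rfl⟩ : h ∈ Submonoid.powers σ := mem_powers_iff_mem_zpowers.2 hh
    have h1 : (σ ^ i) x.1 = x.1 := congrArg Subtype.val hx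
    refine Subtype.ext (hd.regular i (x.1 * x.1) (fun h => x.2 ?_) ?_ (by rw [map_mul, h1]))
    · exact mem_A_of_sq hd (center_good hd) h
    · exact center_sq hd _ ((sq_comm_central hd).1 x.1)
  have hX : Nat.card X = Nat.card P - Nat.card (Subgroup.center P) := by
    have h := Nat.card_congr (Equiv.sumCompl (fun x : P => x ∈ Subgroup.center P))
    rw [Nat.card_sum] at h
    have : Nat.card {x : P // x ∈ Subgroup.center P} = Nat.card (Subgroup.center P) := rfl
    show Nat.card {x : P // x ∉ Subgroup.center P} = _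
    omega
  rw [← hX, Nat.card_congr (MulAction.selfEquivSigmaOrbitsQuotientStabilizer H X)]
  haveI : Fintype (MulAction.orbitRel.Quotient H X) := Fintype.ofFinite _
  rw [Nat.card_sigma]
  refine Finset.dvd_sum fun w _ => ?_
  rw [← Subgroup.index, hfree, Subgroup.index_bot, Nat.card_zpowers]

/-- The order of a Suzuki 2-group. -/
theorem card_eq :
    Nat.card P = Nat.card (Subgroup.center P) ^ 2 ∨ Nat.card P = Nat.card (Subgroup.center P) ^ 3 := by
  haveI := hd.finite
  haveI : Fact (Nat.Prime 2) := ⟨Nat.prime_two⟩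
  classical
  set Z := Subgroup.center P with hZ
  obtain ⟨hsqm, hcm⟩ := sq_comm_central hd
  let I := invSubgroup hd
  have hI : Nat.card I = Nat.card Z :=
    Nat.card_congr (Equiv.subtypeEquivRight fun x =>
      ⟨fun h => mem_A_of_sq hd (center_good hd) h, fun h => center_sq hd x h⟩)
  letI : CommGroup I :=
    { (inferInstance : Group I) with
      mul_comm := fun a b => Subtype.ext (invol_central hd a.2 b) }
  letI : CommGroup (P ⧸ Z) :=
    { (inferInstance : Group (P ⧸ Z)) with
      mul_comm := fun a b => by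
        induction a using QuotientGroup.induction_on with
        | H x =>
          induction b using QuotientGroup.induction_on with
          | H y =>
            rw [← QuotientGroup.mk_mul, ← QuotientGroup.mk_mul, QuotientGroup.eq]
            have e : (x * y)⁻¹ * (y * x) = y⁻¹ * x⁻¹ * y * x := by group
            rw [e]; exact hcm y x }
  letI : Module (ZMod 2) (Additive I) := AddCommGroup.zmodModule fun a => by
    rw [two_nsmul]
    exact Additive.toMul.injective (Subtype.ext (Additive.toMul a).2)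
  letI : Module (ZMod 2) (Additive (P ⧸ Z)) := AddCommGroup.zmodModule fun a => by
    rw [two_nsmul]
    obtain ⟨x, hx⟩ := QuotientGroup.mk_surjective (Additive.toMul a)
    refine Additive.toMul.injective ?_
    show Additive.toMul a * Additive.toMul a = 1
    rw [← hx, ← QuotientGroup.mk_mul, QuotientGroup.eq_one_iff]
    exact hsqm x
  set n := Module.finrank (ZMod 2) (Additive I) with hn
  set d := Module.finrank (ZMod 2) (Additive (P ⧸ Z)) with hdd
  have hcn : Nat.card Z = 2 ^ n := by
    rw [← hI, show Nat.card I = Nat.card (Additive I) from rfl,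
      Module.natCard_eq_pow_finrank (K := ZMod 2), Nat.card_zmod]
  have hcV : Nat.card (P ⧸ Z) = 2 ^ d := by
    rw [show Nat.card (P ⧸ Z) = Nat.card (Additive (P ⧸ Z)) from rfl,
      Module.natCard_eq_pow_finrank (K := ZMod 2), Nat.card_zmod]
  have hcP : Nat.card P = 2 ^ d * 2 ^ n := by
    rw [← hcV, ← hcn]; exact Subgroup.card_eq_card_quotient_mul_card_subgroup Z
  -- `d` is a positive multiple of `n`
  have hn0 : n ≠ 0 := by
    intro h
    rw [h, pow_zero] at hcn
    obtain ⟨x₀, -, -, hx1, hx2, -, -⟩ := hd.two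
    have h2 := mem_A_of_sq hd (center_good hd) hx2
    exact hx1 (Subgroup.mem_bot.1 ((Subgroup.card_eq_one.1 hcn).le h2))
  have hd0 : d ≠ 0 := by
    intro h
    rw [h, pow_zero] at hcV
    obtain ⟨x, y, hxy⟩ := hd.noncomm
    haveI := (Nat.card_eq_one_iff_unique.1 hcV).1
    exact hxy ((Subgroup.mem_center_iff.1
      ((QuotientGroup.eq_one_iff x).1 (Subsingleton.elim _ _)) y).symm)
  have hnd : n ∣ d := by
    have h1 := orderOf_dvd_sub hd
    have h2 : orderOf σ = 2 ^ n - 1 := by
      have := Data.orderOf_add_one hd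
      rw [show Nat.card (invSubgroup hd) = Nat.card Z from hI, hcn] at this
      omega
    rw [h2, hcP, hcn, show 2 ^ d * 2 ^ n - 2 ^ n = (2 ^ d - 1) * 2 ^ n by
      rw [Nat.sub_mul, one_mul]] at h1
    have hcop : Nat.Coprime (2 ^ n - 1) (2 ^ n) := by
      have h := Nat.one_le_two_pow (n := n)
      rw [Nat.coprime_comm, Nat.coprime_self_sub_right h]
      exact Nat.coprime_one_right _
    have h3 := Nat.gcd_eq_left (hcop.dvd_of_dvd_mul_right h1)
    rw [Nat.pow_sub_one_gcd_pow_sub_one] at h3
    have h4 : 2 ^ Nat.gcd n d = 2 ^ n := by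
      have := Nat.one_le_two_pow (n := Nat.gcd n d)
      have := Nat.one_le_two_pow (n := n)
      omega
    rw [← Nat.pow_right_injective le_rfl h4]
    exact Nat.gcd_dvd_right n d
  -- the quadratic map has no nontrivial zero
  let eI := (Module.finBasis (ZMod 2) (Additive I)).equivFun
  let eV := (Module.finBasis (ZMod 2) (Additive (P ⧸ Z))).equivFun
  let S : P → (Fin n → ZMod 2) := fun x =>
    eI (Additive.ofMul ⟨x * x, center_sq hd _ (hsqm x)⟩)
  let Cm : P → P → (Fin n → ZMod 2) := fun x y =>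
    eI (Additive.ofMul ⟨y⁻¹ * x⁻¹ * y * x, center_sq hd _ (hcm y x)⟩)
  have hpolar : ∀ x y, S (x * y) = S x + S y + Cm x y := by
    intro x y
    simp only [S, Cm, ← map_add]
    refine congrArg eI (Additive.toMul.injective (Subtype.ext ?_))
    show x * y * (x * y) = x * x * (y * y) * (y⁻¹ * x⁻¹ * y * x)
    have hc := Subgroup.mem_center_iff.1 (hcm y x)
    calc x * y * (x * y) = x * x * ((y * (y⁻¹ * x⁻¹ * y * x)) * y) := by group
      _ = x * x * ((y * y) * (y⁻¹ * x⁻¹ * y * x)) := by
        rw [mul_assoc y, ← hc y]; group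
      _ = _ := by group
  have hCl : ∀ x x' y, Cm (x * x') y = Cm x y + Cm x' y := by
    intro x x' y
    simp only [Cm, ← map_add]
    refine congrArg eI (Additive.toMul.injective (Subtype.ext ?_))
    show y⁻¹ * (x * x')⁻¹ * y * (x * x') = (y⁻¹ * x⁻¹ * y * x) * (y⁻¹ * x'⁻¹ * y * x')
    have hc := Subgroup.mem_center_iff.1 (hcm y x)
    calc y⁻¹ * (x * x')⁻¹ * y * (x * x')
        = (y⁻¹ * x'⁻¹ * y) * (y⁻¹ * x⁻¹ * y * x) * x' := by group
      _ = (y⁻¹ * x⁻¹ * y * x) * (y⁻¹ * x'⁻¹ * y) * x' := by rw [hc]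
      _ = _ := by group
  have hCz : ∀ x z, z ∈ Z → Cm x z = 0 := by
    intro x z hz
    rw [← map_zero eI]
    refine congrArg eI (Additive.toMul.injective (Subtype.ext ?_))
    show z⁻¹ * x⁻¹ * z * x = 1
    rw [mul_assoc z⁻¹, Subgroup.mem_center_iff.1 hz x⁻¹]; group
  have hSz : ∀ z, z ∈ Z → S z = 0 := by
    intro z hz
    rw [← map_zero eI]
    exact congrArg eI (Additive.toMul.injective (Subtype.ext (center_sq hd z hz)))
  have hSzero : ∀ x, S x = 0 → x ∈ Z := by
    intro x h
    rw [← map_zero eI] at h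
    exact mem_A_of_sq hd (center_good hd)
      (congrArg (fun a : Additive I => (Additive.toMul a).1) (eI.injective h))
  have hlift : ∀ v, ∃ x : P, eV (Additive.ofMul (x : P ⧸ Z)) = v := fun v => by
    obtain ⟨x, hx⟩ := QuotientGroup.mk_surjective (Additive.toMul (eV.symm v))
    exact ⟨x, by rw [hx, ofMul_toMul, LinearEquiv.apply_symm_apply]⟩
  choose lift hlift using hlift
  let Q : (Fin d → ZMod 2) → Fin n → ZMod 2 := fun v => S (lift v)
  have hSQ : ∀ x, S x = Q (eV (Additive.ofMul (x : P ⧸ Z))) := by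
    intro x
    have h1 : Additive.ofMul (x : P ⧸ Z) = Additive.ofMul (lift (eV (Additive.ofMul (x : P ⧸ Z))) : P ⧸ Z) :=
      eV.injective (hlift _).symm
    have h2 : x⁻¹ * lift (eV (Additive.ofMul (x : P ⧸ Z))) ∈ Z :=
      QuotientGroup.eq.1 (Additive.ofMul.injective h1)
    show S x = S _
    conv_rhs => rw [← mul_inv_cancel_left x (lift (eV (Additive.ofMul (x : P ⧸ Z))))]
    rw [hpolar, hSz _ h2, hCz x _ h2, add_zero, add_zero]
  have hQadd : ∀ v w, Q (v + w) = Q v + Q w + Cm (lift v) (lift w) := by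
    intro v w
    show Q (v + w) = S _ + S _ + _
    rw [← hpolar, hSQ (lift v * lift w)]
    congr 1
    rw [QuotientGroup.mk_mul, ofMul_mul, map_add, hlift, hlift]
  have hCv : ∀ u v w, Cm (lift (u + v)) (lift w) = Cm (lift u) (lift w) + Cm (lift v) (lift w) := by
    intro u v w
    rw [← hCl]
    have h1 : Additive.ofMul (lift (u + v) : P ⧸ Z) = Additive.ofMul ((lift u * lift v : P) : P ⧸ Z) :=
      eV.injective (by rw [QuotientGroup.mk_mul, ofMul_mul, map_add, hlift, hlift, hlift])
    have h2 : (lift u * lift v)⁻¹ * lift (u + v) ∈ Z :=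
      QuotientGroup.eq.1 (Additive.ofMul.injective h1).symm
    conv_lhs => rw [← mul_inv_cancel_left (lift u * lift v) (lift (u + v))]
    rw [hCl (lift u * lift v)]
    have h3 : Cm ((lift u * lift v)⁻¹ * lift (u + v)) (lift w) = 0 := by
      rw [← map_zero eI]
      refine congrArg eI (Additive.toMul.injective (Subtype.ext ?_))
      show (lift w)⁻¹ * _⁻¹ * lift w * _ = 1
      rw [mul_assoc (lift w)⁻¹, ← Subgroup.mem_center_iff.1 (Z.inv_mem h2) (lift w)]
      group
    rw [h3, add_zero]
  have hdeg : ∀ i, DegLE 2 fun v => Q v i := by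
    intro i a b c x
    have h1 : ∀ x a, Q (x + a) i + Q x i = Q a i + Cm (lift x) (lift a) i := by
      intro x a
      rw [hQadd x a, Pi.add_apply, Pi.add_apply]
      linear_combination (Q x i) * (CharTwo.two_eq_zero : (2 : ZMod 2) = 0)
    simp only [h1, hCv, Pi.add_apply]
    linear_combination (Q a i + Q a i + Cm (lift x) (lift a) i + Cm (lift x) (lift a) i +
      Cm (lift c) (lift a) i + Cm (lift b) (lift a) i) *
        (CharTwo.two_eq_zero : (2 : ZMod 2) = 0)
  have hd2n : d ≤ 2 * n := by
    by_contra hlt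
    have hprod := DegLE.prod (Finset.univ : Finset (Fin n)) (fun i v => 1 + Q v i) (k := 2)
      fun i _ => ((degLE_const 2 1).add (hdeg i))
    rw [Finset.card_univ, Fintype.card_fin] at hprod
    have hsum := sum_eq_zero_of_degLE hprod (by omega)
    rw [Finset.sum_eq_single (0 : Fin d → ZMod 2)] at hsum
    · have h0 : Q 0 = 0 := hSz _ ((QuotientGroup.eq_one_iff _).1
        (Additive.ofMul.injective (eV.injective ((hlift 0).trans (map_zero eV).symm))))
      simp [h0] at hsum
    · intro v _ hv
      have hne : Q v ≠ 0 := fun h => hv (by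
        rw [← hlift v, (QuotientGroup.eq_one_iff _).2 (hSzero _ h), ofMul_one, map_zero])
      obtain ⟨i, hi⟩ := Function.ne_iff.1 hne
      refine Finset.prod_eq_zero (Finset.mem_univ i) ?_
      rw [zmod_two_eq_one _ hi, CharTwo.add_self_eq_zero]
    · simp
  obtain ⟨k, hk⟩ := hnd
  have hk2 : k = 1 ∨ k = 2 := by
    rcases k with _ | _ | _ | k
    · exact absurd (by rw [hk, mul_zero]) hd0
    · exact Or.inl rfl
    · exact Or.inr rfl
    · rw [hk] at hd2n
      exact absurd (Nat.le_of_mul_le_mul_left (hd2n.trans_eq (mul_comm 2 n)) (Nat.pos_of_ne_zero hn0))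
        (by omega)
  rw [hcn, hcP, ← pow_mul, ← pow_mul, ← pow_add, hk]
  rcases hk2 with rfl | rfl
  · exact Or.inl (by ring_nf)
  · exact Or.inr (by ring_nf)

theorem exponent_eq : Monoid.exponent P = 4 := by
  haveI := hd.finite
  haveI : Fact (Nat.Prime 2) := ⟨Nat.prime_two⟩
  obtain ⟨hsqm, -⟩ := sq_comm_central hd
  have h4 : Monoid.exponent P ∣ 2 ^ 2 := Monoid.exponent_dvd_of_forall_pow_eq_one fun x => by
    have := center_sq hd _ (hsqm x)
    simpa [pow_succ, mul_assoc] using this
  obtain ⟨k, hk, hexp⟩ := (Nat.dvd_prime_pow Nat.prime_two).1 h4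
  rcases Nat.lt_or_ge k 2 with hk1 | hk2
  · exfalso
    obtain ⟨x, y, hxy⟩ := hd.noncomm
    have h2 : x * x = 1 := by
      have h : x ^ (2 ^ 1) = 1 := by
        have hx := Monoid.pow_exponent_eq_one x
        rw [hexp] at hx
        rw [show 1 = k + (1 - k) by omega, pow_add, pow_mul, hx, one_pow]
      simpa [pow_two] using h
    exact hxy (invol_central hd h2 y)
  · rw [hexp, show k = 2 by omega]; rfl

end Cfsg.Agent.Suzuki2
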