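import Cfsg.Agent.FieldMaps.Additive

/-!
# Products of two automorphisms of a finite field of characteristic two
-/

set_option autoImplicit false
set_option linter.unusedSectionVars false

namespace Cfsg.Agent.Suzuki2

variable {F : Type*} [Field F] [Fintype F] [CharP F 2]

/-- A product of two automorphisms determines the unordered pair. -/
theorem pair_eq {a b c d : F ≃+* F} (h : ∀ x, a x * b x = c x * d x) :
    (a = c ∧ b = d) ∨ (a = d ∧ b = c) := by
  classical
  have key : ∀ {a b c d : F ≃+* F}, (∀ x, a x * b x = c x * d x) → a ≠ b →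
      (a = c ∧ b = d) ∨ (a = d ∧ b = c) := by
    intro a b c d h hab
    have h0 := FieldMaps.coeff₂_unique (F := F) (d := fun σ τ =>
      (if σ = a then (if τ = b then (1 : F) else 0) else 0) +
        (if σ = b then (if τ = a then (1 : F) else 0) else 0) -
      ((if σ = c then (if τ = d then (1 : F) else 0) else 0) +
        (if σ = d then (if τ = c then (1 : F) else 0) else 0))) (fun x y => by
      simp only [sub_mul, add_mul, ite_mul, one_mul, zero_mul, Finset.sum_sub_distrib,
        Finset.sum_add_distrib, Finset.sum_ite_irrel, Finset.sum_ite_eq', Finset.mem_univ, if_true,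
        Finset.sum_const_zero]
      have h1 := h (x + y)
      simp only [map_add] at h1
      linear_combination h1 - h x - h y)
    have h1 := congrFun (congrFun h0 a) b
    simp only [if_true, if_neg hab, add_zero, Pi.zero_apply] at h1
    by_contra hne
    simp only [not_or] at hne
    have e1 : (if a = c then (if b = d then (1 : F) else 0) else 0) = 0 := by
      split_ifs with h1 h2
      · exact absurd ⟨h1, h2⟩ hne.1
      · rfl
      · rfl
    have e2 : (if a = d then (if b = c then (1 : F) else 0) else 0) = 0 := by
      split_ifs with h1 h2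
      · exact absurd ⟨h1, h2⟩ hne.2
      · rfl
      · rfl
    rw [e1, e2, add_zero, sub_zero] at h1
    exact one_ne_zero h1
  by_cases hab : a = b
  · by_cases hcd : c = d
    · subst hab; subst hcd
      refine Or.inl ⟨?_, ?_⟩ <;>
      · refine RingEquiv.ext fun z => ?_
        haveI : Fact (Nat.Prime 2) := ⟨Nat.prime_two⟩
        obtain ⟨x, rfl⟩ := (frobeniusEquiv F 2).surjective z
        simp only [frobeniusEquiv_apply, frobenius_def, pow_two, map_mul]
        exact h x
    · rcases key (fun x => (h x).symm) hcd with ⟨h1, h2⟩ | ⟨h1, h2⟩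
      · exact Or.inl ⟨h1.symm, h2.symm⟩
      · exact Or.inr ⟨h2.symm, h1.symm⟩
  · exact key h hab

/-- A proper subring of a finite field has at most `√|F|` elements. -/
theorem subring_card_sq_le {R : Subring F} (hR : R ≠ ⊤) :
    Nat.card R * Nat.card R ≤ Nat.card F := by
  classical
  haveI : IsDomain R := inferInstance
  letI : Field R := (Finite.isField_of_domain R).toField
  letI : Module R F := Module.compHom F R.subtype
  have hcard := Module.natCard_eq_pow_finrank (K := R) (V := F)
  rcases hk : Module.finrank R F with _ | _ | k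
  · rw [hk, pow_zero] at hcard
    exact absurd hcard (Finite.one_lt_card (α := F)).ne'
  · exfalso
    rw [hk, zero_add, pow_one] at hcard
    refine hR (eq_top_iff.2 fun x _ => ?_)
    obtain ⟨y, hy⟩ :=
      ((Nat.bijective_iff_injective_and_card (fun x : R => (x : F))).2
        ⟨Subtype.val_injective, hcard.symm⟩).2 x
    exact hy ▸ y.2
  · rw [hcard, hk, show k + 1 + 1 = 2 + k by ring, pow_add, pow_two]
    exact Nat.le_mul_of_pos_right _ (pow_pos Nat.card_pos _)

/-- The multipliers `x / τ x` of a non-trivial automorphism generate the field. -/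
theorem subring_eq_top {τ : F ≃+* F} (hτ : τ ≠ RingEquiv.refl F) {R : Subring F}
    (hR : ∀ x : F, x ≠ 0 → x / τ x ∈ R) : R = ⊤ := by
  classical
  by_contra hne
  let E : Subring F := RingHom.eqLocus (τ : F →+* F) (RingHom.id F)
  have hE : E ≠ ⊤ := fun h => hτ (RingEquiv.ext fun x => (h ▸ Subring.mem_top x : x ∈ E))
  have h1 := subring_card_sq_le hne
  have h2 := subring_card_sq_le hE
  haveI : Fintype Fˣ := Fintype.ofFinite _
  -- the kernel and the image of `x ↦ x / τ x`
  let f : Fˣ →* Fˣ :=
    { toFun := fun x => x / Units.map (τ : F →* F) x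
      map_one' := by simp
      map_mul' := fun x y => by rw [map_mul]; exact mul_div_mul_comm x y _ _ }
  have hker : Nat.card f.ker + 1 ≤ Nat.card E := by
    rw [← Finite.card_option]
    refine Nat.card_le_card_of_injective
      (fun o => o.elim (⟨0, E.zero_mem⟩ : E) fun x => ⟨(x.1 : F), ?_⟩) ?_
    · have h : x.1 / Units.map (τ : F →* F) x.1 = 1 := x.2
      rw [div_eq_one] at h
      exact (congrArg Units.val h).symm
    · rintro (_ | x) (_ | y) h
      · rfl
      · exact absurd (congrArg Subtype.val h).symm y.1.ne_zero
      · exact absurd (congrArg Subtype.val h) x.1.ne_zero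
      · exact congrArg some (Subtype.ext (Units.ext (congrArg Subtype.val h)))
  have him : Nat.card f.range + 1 ≤ Nat.card R := by
    rw [← Finite.card_option]
    refine Nat.card_le_card_of_injective
      (fun o => o.elim (⟨0, R.zero_mem⟩ : R) fun x => ⟨(x.1 : F), ?_⟩) ?_
    · obtain ⟨z, hz⟩ := x.2
      rw [← hz]
      have : ((f z : Fˣ) : F) = (z : F) / τ z := by simp [f]
      rw [this]
      exact hR _ z.ne_zero
    · rintro (_ | x) (_ | y) h
      · rfl
      · exact absurd (congrArg Subtype.val h).symm y.1.ne_zero
      · exact absurd (congrArg Subtype.val h) x.1.ne_zero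
      · exact congrArg some (Subtype.ext (Units.ext (congrArg Subtype.val h)))
  have hmul := f.ker.card_mul_index
  rw [Subgroup.index_ker, Nat.card_units] at hmul
  have hk : 1 ≤ Nat.card f.ker := Nat.card_pos
  have hi : 1 ≤ Nat.card f.range := Nat.card_pos
  have hER : Nat.card E * Nat.card R ≤ Nat.card F := by
    refine Nat.mul_self_le_mul_self_iff.1 ?_
    calc Nat.card E * Nat.card R * (Nat.card E * Nat.card R)
        = Nat.card R * Nat.card R * (Nat.card E * Nat.card E) := by ring
      _ ≤ _ := Nat.mul_le_mul h1 h2
  have hkr := Nat.mul_le_mul hker him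
  have hpos : 1 ≤ Nat.card F := Nat.card_pos
  rw [Nat.add_mul, Nat.mul_add, Nat.mul_add, hmul] at hkr
  omega

end Cfsg.Agent.Suzuki2
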