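import Mathlib

/-!
# Finite abelian groups of exponent two with an automorphism transitive on the non-zero elements
-/

set_option autoImplicit false

namespace Cfsg.Agent.Suzuki2

universe u

variable {E : Type u} [AddCommGroup E] [Finite E] {σ : AddMonoid.End E}

omit [Finite E] in
theorem pow_comm (σ : AddMonoid.End E) (i j : ℕ) (x : E) :
    (σ ^ i) ((σ ^ j) x) = (σ ^ (i + j)) x := by
  rw [pow_add]; rfl

/-- The commutant of a transitive automorphism is a field with `|E|` elements. -/
theorem exists_field (htrans : ∀ u v : E, u ≠ 0 → v ≠ 0 → ∃ i : ℕ, (σ ^ i) u = v)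
    (hσ0 : ∀ x, σ x = 0 → x = 0) (hne : ∃ u : E, u ≠ 0) :
    ∃ (F : Type u) (_ : Field F) (_ : Fintype F) (e : E ≃+ F) (l : F),
      (∀ x, e (σ x) = l * e x) ∧ ∀ x : F, x ≠ 0 → ∃ i : ℕ, l ^ i = x := by
  classical
  obtain ⟨u₀, hu₀⟩ := hne
  set C : Subring (AddMonoid.End E) := Subring.centralizer {σ} with hC
  have hmem : ∀ i : ℕ, σ ^ i ∈ C := fun i => by
    rw [hC, Subring.mem_centralizer_iff]
    intro g hg
    rw [Set.mem_singleton_iff] at hg
    subst hg
    exact (Commute.self_pow g i).eq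
  have hpow0 : ∀ (i : ℕ) (x : E), (σ ^ i) x = 0 → x = 0 := by
    intro i
    induction i with
    | zero => intro x h; simpa using h
    | succ i ih => intro x h; rw [pow_succ'] at h; exact ih x (hσ0 _ h)
  have hdet : ∀ f g : C, (f : AddMonoid.End E) u₀ = (g : AddMonoid.End E) u₀ → f = g := by
    intro f g h
    refine Subtype.ext (DFunLike.ext _ _ fun x => ?_)
    by_cases hx : x = 0
    · subst hx; simp
    obtain ⟨i, rfl⟩ := htrans u₀ x hu₀ hx
    have hc : ∀ f : C, (f : AddMonoid.End E) ((σ ^ i) u₀) = (σ ^ i) ((f : AddMonoid.End E) u₀) := by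
      intro f
      have hf := (Subring.mem_centralizer_iff.1 f.2) σ rfl
      exact DFunLike.congr_fun (((show Commute σ (f : AddMonoid.End E) from hf).pow_left i).symm.eq) u₀
    rw [hc, hc, h]
  have hpow : ∀ f : C, f ≠ 0 → ∃ i : ℕ, f = ⟨σ ^ i, hmem i⟩ := by
    intro f hf
    have hfu : (f : AddMonoid.End E) u₀ ≠ 0 := fun h => hf (hdet f 0 (by rw [h]; rfl))
    obtain ⟨i, hi⟩ := htrans u₀ _ hu₀ hfu
    exact ⟨i, hdet _ _ hi.symm⟩
  have hfield : IsField C := by
    refine ⟨⟨0, 1, fun h => hu₀ ?_⟩, fun f g => ?_, fun {f} hf => ?_⟩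
    · have := congrArg (fun f : C => (f : AddMonoid.End E) u₀) h
      simpa using this.symm
    · by_cases hf : f = 0
      · rw [hf, zero_mul, mul_zero]
      by_cases hg : g = 0
      · rw [hg, zero_mul, mul_zero]
      obtain ⟨i, rfl⟩ := hpow f hf
      obtain ⟨j, rfl⟩ := hpow g hg
      exact Subtype.ext ((Commute.pow_pow_self σ i j).eq)
    · obtain ⟨i, rfl⟩ := hpow f hf
      obtain ⟨j, hj⟩ := htrans _ u₀ (fun h => hu₀ (hpow0 i u₀ h)) hu₀
      refine ⟨⟨σ ^ j, hmem j⟩, hdet _ _ ?_⟩
      show (σ ^ i) ((σ ^ j) u₀) = u₀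
      rw [pow_comm, add_comm, ← pow_comm]
      exact hj
  let ev : C →+ E :=
    { toFun := fun f => (f : AddMonoid.End E) u₀
      map_zero' := rfl
      map_add' := fun _ _ => rfl }
  have hbij : Function.Bijective ev := by
    refine ⟨hdet, fun x => ?_⟩
    by_cases hx : x = 0
    · exact ⟨0, by subst hx; rfl⟩
    obtain ⟨i, hi⟩ := htrans u₀ x hu₀ hx
    exact ⟨⟨σ ^ i, hmem i⟩, hi⟩
  let e0 : C ≃+ E := AddEquiv.ofBijective ev hbij
  haveI : Finite C := Finite.of_equiv E e0.symm.toEquiv
  letI := hfield.toField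
  letI := Fintype.ofFinite C
  refine ⟨C, inferInstance, inferInstance, e0.symm, ⟨σ, by simpa using hmem 1⟩, fun x => ?_,
    fun x hx => ?_⟩
  · apply e0.injective
    rw [AddEquiv.apply_symm_apply]
    show σ x = σ ((e0.symm x : AddMonoid.End E) u₀)
    exact congrArg σ (e0.apply_symm_apply x).symm
  · obtain ⟨i, hi⟩ := hpow x hx
    exact ⟨i, hi.symm ▸ Subtype.ext (by simp)⟩

/-- An equivariant alternating biadditive map into the same module vanishes. -/
theorem alt_zero (htrans : ∀ u v : E, u ≠ 0 → v ≠ 0 → ∃ i : ℕ, (σ ^ i) u = v)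
    (hσ0 : ∀ x, σ x = 0 → x = 0) (h2 : ∀ x : E, x + x = 0) (B : E → E → E)
    (hl : ∀ x y z, B (x + y) z = B x z + B y z) (hr : ∀ x y z, B x (y + z) = B x y + B x z)
    (heq : ∀ x y, B (σ x) (σ y) = σ (B x y)) (halt : ∀ x, B x x = 0) : ∀ x y, B x y = 0 := by
  by_cases hne : ∃ u : E, u ≠ 0
  swap
  · intro x y; by_contra h; exact hne ⟨_, h⟩
  obtain ⟨F, _, _, e, l, hl', hgen⟩ := exists_field htrans hσ0 hne
  let B' : F → F → F := fun x y => e (B (e.symm x) (e.symm y))
  have h2' : ∀ x : F, x + x = 0 := fun x => by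
    apply e.symm.injective; rw [map_add, map_zero, h2]
  have hl₂ : ∀ x y z, B' (x + y) z = B' x z + B' y z := fun x y z => by simp [B', hl]
  have hr₂ : ∀ x y z, B' x (y + z) = B' x y + B' x z := fun x y z => by simp [B', hr]
  have hl0 : ∀ y, B' 0 y = 0 := fun y => by
    have := hl₂ 0 0 y
    rw [add_zero] at this
    exact left_eq_add.1 this
  have hr0 : ∀ x, B' x 0 = 0 := fun x => by
    have := hr₂ x 0 0
    rw [add_zero] at this
    exact left_eq_add.1 this
  have halt' : ∀ x, B' x x = 0 := fun x => by simp [B', halt]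
  have hscale₁ : ∀ x y, B' (l * x) (l * y) = l * B' x y := by
    intro x y
    have hsy : ∀ z, e.symm (l * z) = σ (e.symm z) := fun z => by
      apply e.injective; rw [hl', AddEquiv.apply_symm_apply, AddEquiv.apply_symm_apply]
    simp only [B', hsy, heq, hl']
  have hscale : ∀ s x y, B' (s * x) (s * y) = s * B' x y := by
    intro s x y
    by_cases hs : s = 0
    · rw [hs, zero_mul, zero_mul, zero_mul, hl0]
    obtain ⟨i, rfl⟩ := hgen s hs
    induction i generalizing x y with
    | zero => simp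
    | succ i ih =>
      have hl1 : l ^ i ≠ 0 := fun h => hs (by rw [pow_succ, h, zero_mul])
      rw [pow_succ, mul_assoc, mul_assoc, ih _ _ hl1, hscale₁, mul_assoc]
  have hsymm : ∀ x y, B' x y = B' y x := by
    intro x y
    have h := halt' (x + y)
    rw [hl₂, hr₂, hr₂, halt', halt', zero_add, add_zero] at h
    exact (eq_neg_of_add_eq_zero_left h).trans (eq_neg_of_add_eq_zero_left (h2' _)).symm
  let f : F → F := fun v => B' 1 v
  have hf1 : f 1 = 0 := halt' 1
  have hB : ∀ u v, u ≠ 0 → B' u v = u * f (v / u) := fun u v hu => by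
    simp only [f]
    rw [← hscale, mul_one, mul_div_cancel₀ v hu]
  have hinv : ∀ x, x ≠ 0 → f (1 / x) * x = f x := fun x hx => by
    rw [mul_comm, ← hB x 1 hx, hsymm]
  have hsq : ∀ w, f (w * w) = 0 := by
    intro w
    by_cases hw : w = 0
    · rw [hw, zero_mul]; exact hr0 1
    by_cases hw1 : 1 + w = 0
    · have hw' : w = 1 := by
        have h1 := h2' (1 : F)
        exact (add_left_cancel (h1.trans hw1.symm)).symm
      rw [hw', mul_one]; exact hf1
    have h := hl₂ 1 w (w * w)
    rw [hB _ _ hw1, hB w _ hw, mul_div_cancel_right₀ w hw] at h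
    have e1 : w * w / (1 + w) = w + 1 + 1 / (1 + w) := by
      field_simp
      linear_combination -(h2' (1 : F)) - (h2' w)
    have e2 := hinv _ hw1
    have hfadd : ∀ x y, f (x + y) = f x + f y := hr₂ 1
    rw [e1, hfadd, hfadd, hf1, add_zero] at h
    have e3 : f (1 + w) = f w := by rw [hfadd, hf1, zero_add]
    rw [e3] at e2
    have h' : (1 + w) * f w + f w = f (w * w) + w * f w := by
      linear_combination h - e2
    linear_combination -h' + (h2' (f w))
  intro x y
  suffices hf : ∀ v, f v = 0 by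
    apply e.injective
    rw [map_zero, show e (B x y) = B' (e x) (e y) by simp [B']]
    by_cases hx : e x = 0
    · rw [hx, hl0]
    · rw [hB _ _ hx, hf, mul_zero]
  intro v
  haveI : CharP F 2 := CharTwo.of_one_ne_zero_of_two_eq_zero one_ne_zero (by rw [← one_add_one_eq_two, h2'])
  haveI : Fact (Nat.Prime 2) := ⟨Nat.prime_two⟩
  obtain ⟨w, rfl⟩ := (frobeniusEquiv F 2).surjective v
  rw [frobeniusEquiv_apply, frobenius_def, pow_two]
  exact hsq w

end Cfsg.Agent.Suzuki2
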