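import Cfsg.Prelude.Def_LieRecognition
import Cfsg.Agent.Suzuki2.Field
import Cfsg.Agent.PGroup.Basic

/-!
# Suzuki 2-groups: the involutions are central
-/

set_option autoImplicit false
set_option linter.unusedSectionVars false

namespace Cfsg.Agent.Suzuki2

variable {P : Type*} [Group P]

/-- The data of a Suzuki 2-group with a chosen automorphism. -/
structure Data (σ : MulAut P) : Prop where
  finite : Finite P
  pgroup : IsPGroup 2 P
  noncomm : ∃ x y : P, x * y ≠ y * x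
  two : ∃ x y : P, x ≠ y ∧ x ≠ 1 ∧ x * x = 1 ∧ y ≠ 1 ∧ y * y = 1
  trans : ∀ x y : P, x ≠ 1 → x * x = 1 → y ≠ 1 → y * y = 1 → ∃ i : ℕ, (σ ^ i) x = y
  regular : ∀ (i : ℕ) (x : P), x ≠ 1 → x * x = 1 → (σ ^ i) x = x → σ ^ i = 1

theorem exists_data (hP : Cfsg.IsSuzukiTwoGroup P) : ∃ σ : MulAut P, Data σ := by
  obtain ⟨hf, hp, hnc, htwo, K, hK, hreg⟩ := hP
  obtain ⟨⟨g, hgK⟩, hg⟩ := hK.exists_generator
  haveI : Finite (MulAut P) := Finite.of_injective _ (DFunLike.coe_injective (F := MulAut P))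
  refine ⟨g, hf, hp, hnc, htwo, fun x y hx hx2 hy hy2 => ?_, fun i x hx hx2 h => ?_⟩
  · obtain ⟨k, hk, -⟩ := hreg x y hx hx2 hy hy2
    obtain ⟨i, hi⟩ : k ∈ Submonoid.powers (⟨g, hgK⟩ : K) :=
      mem_powers_iff_mem_zpowers.2 (hg k)
    exact ⟨i, by rw [← hi] at hk; simpa using hk⟩
  · obtain ⟨k, -, hk⟩ := hreg x x hx hx2 hx hx2
    have h1 := hk ⟨g ^ i, K.pow_mem hgK i⟩ h
    have h2 := hk 1 rfl
    exact congrArg Subtype.val (h1.trans h2.symm)

variable {σ : MulAut P}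

theorem pow_apply_succ (i : ℕ) (x : P) : (σ ^ (i + 1)) x = σ ((σ ^ i) x) := by
  rw [pow_succ']; rfl

theorem pow_apply_mem {S : Set P} (hS : ∀ x ∈ S, σ x ∈ S) {x : P} (hx : x ∈ S) :
    ∀ i : ℕ, (σ ^ i) x ∈ S := by
  intro i
  induction i with
  | zero => simpa using hx
  | succ i ih => rw [pow_apply_succ]; exact hS _ ih

variable (hd : Data σ)
include hd

theorem invol_central {x : P} (hx : x * x = 1) : ∀ y : P, x * y = y * x := by
  haveI := hd.finite
  haveI : Fact (Nat.Prime 2) := ⟨Nat.prime_two⟩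
  haveI : Nontrivial P := by
    obtain ⟨a, b, h⟩ := hd.noncomm
    exact ⟨⟨a * b, b * a, h⟩⟩
  by_cases hx1 : x = 1
  · intro y; rw [hx1, one_mul, mul_one]
  haveI := hd.pgroup.center_nontrivial
  obtain ⟨z, hz⟩ := exists_prime_orderOf_dvd_card' (G := Subgroup.center P) 2
    ((hd.pgroup.to_subgroup _).card_eq_or_dvd.resolve_left
      fun h => (Finite.one_lt_card (α := Subgroup.center P)).ne' h)
  have hz1 : (z : P) ≠ 1 := fun h => by
    rw [show z = 1 from Subtype.ext h, orderOf_one] at hz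
    exact absurd hz (by norm_num)
  have hz2 : (z : P) * z = 1 := by
    have := pow_orderOf_eq_one z
    rw [hz, pow_two] at this
    exact congrArg Subtype.val this
  obtain ⟨i, rfl⟩ := hd.trans _ x hz1 hz2 hx1 hx
  intro y
  obtain ⟨y', rfl⟩ := (σ ^ i).surjective y
  rw [← map_mul, ← map_mul, Subgroup.mem_center_iff.1 z.2 y']

theorem invol_mul {x y : P} (hx : x * x = 1) (hy : y * y = 1) : x * y * (x * y) = 1 := by
  rw [mul_assoc, ← mul_assoc y, ← invol_central hd hx y, mul_assoc, hy, mul_one, hx]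

/-- The subgroup of elements of order at most two. -/
def invSubgroup : Subgroup P where
  carrier := {x | x * x = 1}
  one_mem' := mul_one 1
  mul_mem' := fun hx hy => invol_mul hd hx hy
  inv_mem' := fun {x} hx => by
    show x⁻¹ * x⁻¹ = 1
    rw [← mul_inv_rev, show x * x = 1 from hx, inv_one]

/-- An equivariant alternating biadditive map on the involutions, given on a cover `N`, is trivial. -/
theorem alt_trivial (N : Subgroup P) (hN : ∀ x ∈ N, σ x ∈ N) (q : P → P) (T : P → P → P)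
    (hqI : ∀ y ∈ N, q y * q y = 1) (hq : ∀ y ∈ N, ∀ y' ∈ N, q (y * y') = q y * q y')
    (hqσ : ∀ y ∈ N, q (σ y) = σ (q y)) (honto : ∀ u : P, u * u = 1 → ∃ y ∈ N, q y = u)
    (hTI : ∀ y ∈ N, ∀ u : P, u * u = 1 → T y u * T y u = 1)
    (hTl : ∀ y ∈ N, ∀ y' ∈ N, ∀ u : P, u * u = 1 → T (y * y') u = T y u * T y' u)
    (hTr : ∀ y ∈ N, ∀ u v : P, u * u = 1 → v * v = 1 → T y (u * v) = T y u * T y v)
    (hTσ : ∀ y ∈ N, ∀ u : P, u * u = 1 → T (σ y) (σ u) = σ (T y u))
    (hker : ∀ y ∈ N, ∀ u : P, u * u = 1 → q y = 1 → T y u = 1)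
    (halt : ∀ y ∈ N, T y (q y) = 1) : ∀ y ∈ N, ∀ u : P, u * u = 1 → T y u = 1 := by
  haveI := hd.finite
  choose sec hsecN hsec using honto
  have hinv : ∀ y ∈ N, ∀ y' ∈ N, ∀ u : P, u * u = 1 → q y = q y' → T y u = T y' u := by
    intro y hy y' hy' u hu h
    have h1 : q (y * y'⁻¹) = 1 := by
      have h3 := hq (y * y'⁻¹) (N.mul_mem hy (N.inv_mem hy')) y' hy'
      rw [inv_mul_cancel_right, h] at h3
      exact right_eq_mul.1 h3
    have h2 := hTl (y * y'⁻¹) (N.mul_mem hy (N.inv_mem hy')) y' hy' u hu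
    rw [inv_mul_cancel_right, hker _ (N.mul_mem hy (N.inv_mem hy')) u hu h1, one_mul] at h2
    exact h2
  let I := invSubgroup hd
  letI : CommGroup I :=
    { (inferInstance : Group I) with
      mul_comm := fun a b => Subtype.ext (invol_central hd a.2 b) }
  let s : AddMonoid.End (Additive I) :=
    MonoidHom.toAdditive
      ((σ.toMonoidHom.comp I.subtype).codRestrict I fun a => by
        show σ a.1 * σ a.1 = 1
        rw [← map_mul, show a.1 * a.1 = 1 from a.2, map_one])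
  have hs : ∀ a : Additive I, ((Additive.toMul (s a) : I) : P) = σ (Additive.toMul a).1 :=
    fun a => rfl
  have hspow : ∀ (i : ℕ) (a : Additive I),
      ((Additive.toMul ((s ^ i) a) : I) : P) = (σ ^ i) (Additive.toMul a).1 := by
    intro i
    induction i with
    | zero => intro a; rfl
    | succ i ih =>
      intro a
      rw [pow_apply_succ, ← ih a, pow_succ']
      exact hs _
  have hext : ∀ {a b : Additive I}, (Additive.toMul a : I).1 = (Additive.toMul b : I).1 → a = b :=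
    fun h => Additive.toMul.injective (Subtype.ext h)
  let B : Additive I → Additive I → Additive I := fun a b =>
    Additive.ofMul ⟨T (sec _ (Additive.toMul a).2) (Additive.toMul b).1,
      hTI _ (hsecN _ _) _ (Additive.toMul b).2⟩
  have hB := alt_zero (σ := s) (E := Additive I) ?_ ?_ ?_ B ?_ ?_ ?_ ?_
  · intro y hy u hu
    have h := congrArg (fun a : Additive I => (Additive.toMul a : I).1)
      (hB (Additive.ofMul ⟨q y, hqI y hy⟩) (Additive.ofMul ⟨u, hu⟩))
    rw [hinv y hy _ (hsecN _ (hqI y hy)) u hu (hsec _ _).symm]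
    exact h
  · intro a b ha hb
    obtain ⟨i, hi⟩ := hd.trans _ _ (fun h => ha (hext h)) (Additive.toMul a).2
      (fun h => hb (hext h)) (Additive.toMul b).2
    exact ⟨i, hext ((hspow i a).trans hi)⟩
  · intro a ha
    refine hext ?_
    have := congrArg (fun a : Additive I => (Additive.toMul a : I).1) ha
    simp only [hs] at this
    exact (EmbeddingLike.map_eq_one_iff.1 this)
  · exact fun a => hext (Additive.toMul a).2
  · intro a b c
    refine hext ?_
    refine Eq.trans ?_ (hTl _ (hsecN _ (Additive.toMul a).2) _ (hsecN _ (Additive.toMul b).2) _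
      (Additive.toMul c).2)
    refine hinv _ (hsecN _ _) _ (N.mul_mem (hsecN _ _) (hsecN _ _)) _ (Additive.toMul c).2 ?_
    exact (hsec _ _).trans (((hq _ (hsecN _ _) _ (hsecN _ _)).trans
      (congrArg₂ (· * ·) (hsec _ _) (hsec _ _))).symm)
  · intro a b c
    refine hext ?_
    exact hTr _ (hsecN _ _) _ _ (Additive.toMul b).2 (Additive.toMul c).2
  · intro a b
    refine hext ?_
    refine Eq.trans ?_ (hTσ _ (hsecN _ (Additive.toMul a).2) _ (Additive.toMul b).2)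
    refine hinv _ (hsecN _ _) _ (hN _ (hsecN _ _)) _
      (Additive.toMul (s b)).2 ?_
    exact (hsec _ _).trans ((hqσ _ (hsecN _ _)).trans (congrArg σ (hsec _ _))).symm
  · intro a
    refine hext ?_
    show T (sec _ (Additive.toMul a).2) (Additive.toMul a).1 = 1
    have h := halt _ (hsecN _ (Additive.toMul a).2)
    exact (congrArg (T _) (hsec _ _)).symm.trans h

/-- A subgroup that is abelian, normal, invariant and contains the centre. -/
structure Good (A : Subgroup P) : Prop where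
  comm : ∀ a ∈ A, ∀ b ∈ A, a * b = b * a
  conj : ∀ p : P, ∀ a ∈ A, p⁻¹ * a * p ∈ A
  inv : ∀ a ∈ A, σ a ∈ A
  center : Subgroup.center P ≤ A

theorem center_good : Good (σ := σ) (Subgroup.center P) :=
  ⟨fun a ha b _ => (Subgroup.mem_center_iff.1 ha b).symm,
    fun p a ha => by rwa [mul_assoc, ← Subgroup.mem_center_iff.1 ha p, inv_mul_cancel_left],
    fun a ha => Subgroup.mem_center_iff.2 fun y => by
      obtain ⟨y', rfl⟩ := σ.surjective y
      rw [← map_mul, ← map_mul, Subgroup.mem_center_iff.1 ha y'], le_rfl⟩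

theorem mem_A_of_sq {A : Subgroup P} (hA : Good (σ := σ) A) {x : P} (hx : x * x = 1) : x ∈ A :=
  hA.center (Subgroup.mem_center_iff.2 fun y => (invol_central hd hx y).symm)

/-- A normal subgroup `C` above a good `A` contains an element central of order two modulo `A`. -/
theorem exists_step {A : Subgroup P} (hA : Good (σ := σ) A) (C : Subgroup P) (hC : C.Normal)
    (hlt : ∃ x ∈ C, x ∉ A) :
    ∃ y ∈ C, y ∉ A ∧ y * y ∈ A ∧ ∀ p : P, y⁻¹ * p⁻¹ * y * p ∈ A := by
  haveI := hd.finite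
  haveI : Fact (Nat.Prime 2) := ⟨Nat.prime_two⟩
  haveI hAn : A.Normal := ⟨fun a ha p => by simpa using hA.conj p⁻¹ a ha⟩
  haveI : (C.map (QuotientGroup.mk' A)).Normal :=
    hC.map _ (QuotientGroup.mk'_surjective A)
  have hne : C.map (QuotientGroup.mk' A) ≠ ⊥ := by
    obtain ⟨x, hx, hxA⟩ := hlt
    intro h
    have h1 : QuotientGroup.mk' A x ∈ C.map (QuotientGroup.mk' A) := Subgroup.mem_map_of_mem _ hx
    rw [h, Subgroup.mem_bot, QuotientGroup.mk'_apply, QuotientGroup.eq_one_iff] at h1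
    exact hxA h1
  set M := C.map (QuotientGroup.mk' A) ⊓ Subgroup.center (P ⧸ A) with hM
  have hMne : M ≠ ⊥ := PGroup.inf_center_ne_bot (hd.pgroup.to_quotient A) _ hne
  obtain ⟨w, hw⟩ := exists_prime_orderOf_dvd_card' (G := M) 2
    (((hd.pgroup.to_quotient A).to_subgroup M).card_eq_or_dvd.resolve_left
      fun h => hMne (Subgroup.card_eq_one.1 h))
  obtain ⟨⟨y, hy, hyw⟩, hwc⟩ := Subgroup.mem_inf.1 w.2
  rw [QuotientGroup.mk'_apply] at hyw
  refine ⟨y, hy, fun hyA => ?_, ?_, fun p => ?_⟩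
  · rw [(QuotientGroup.eq_one_iff y).2 hyA] at hyw
    rw [show w = 1 from Subtype.ext hyw.symm, orderOf_one] at hw
    exact absurd hw (by norm_num)
  · have h1 := congrArg Subtype.val (pow_orderOf_eq_one w)
    rw [hw, SubgroupClass.coe_pow, ← hyw, pow_two, ← QuotientGroup.mk_mul,
      OneMemClass.coe_one, QuotientGroup.eq_one_iff] at h1
    exact h1
  · have h1 := Subgroup.mem_center_iff.1 hwc (p : P ⧸ A)
    rw [← hyw, ← QuotientGroup.mk_mul, ← QuotientGroup.mk_mul, QuotientGroup.eq] at h1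
    have e : y⁻¹ * p⁻¹ * y * p = ((p * y)⁻¹ * (y * p)) := by group
    rw [e]
    exact h1

/-- The elements of order two in the centre of `P` modulo a good subgroup, inside `C`. -/
def stepSubgroup {A : Subgroup P} (hA : Good (σ := σ) A) (C : Subgroup P) : Subgroup P where
  carrier := {y | y ∈ C ∧ y * y ∈ A ∧ ∀ p : P, y⁻¹ * p⁻¹ * y * p ∈ A}
  one_mem' := ⟨C.one_mem, by simp [A.one_mem], fun p => by simp [A.one_mem]⟩
  mul_mem' := by
    rintro y y' ⟨hy, hy2, hyc⟩ ⟨hy', hy2', hyc'⟩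
    refine ⟨C.mul_mem hy hy', ?_, fun p => ?_⟩
    · have e : y * y' * (y * y') = y * y * (y'⁻¹⁻¹ * (y'⁻¹ * y⁻¹ * y' * y) * y'⁻¹) * (y' * y') := by
        group
      rw [e]
      exact A.mul_mem (A.mul_mem hy2 (hA.conj _ _ (hyc' y))) hy2'
    · have e : (y * y')⁻¹ * p⁻¹ * (y * y') * p =
          y'⁻¹ * (y⁻¹ * p⁻¹ * y * p) * y' * (y'⁻¹ * p⁻¹ * y' * p) := by group
      rw [e]
      exact A.mul_mem (hA.conj _ _ (hyc p)) (hyc' p)
  inv_mem' := by
    rintro y ⟨hy, hy2, hyc⟩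
    refine ⟨C.inv_mem hy, ?_, fun p => ?_⟩
    · rw [← mul_inv_rev]; exact A.inv_mem hy2
    · have e : y⁻¹⁻¹ * p⁻¹ * y⁻¹ * p = y⁻¹⁻¹ * (y⁻¹ * p⁻¹ * y * p)⁻¹ * y⁻¹ := by group
      rw [e]
      exact hA.conj y⁻¹ _ (A.inv_mem (hyc p))

theorem mem_stepSubgroup {A : Subgroup P} (hA : Good (σ := σ) A) {C : Subgroup P} {y : P} :
    y ∈ stepSubgroup hA C ↔ y ∈ C ∧ y * y ∈ A ∧ ∀ p : P, y⁻¹ * p⁻¹ * y * p ∈ A := Iff.rfl

theorem stepSubgroup_inv {A : Subgroup P} (hA : Good (σ := σ) A) {C : Subgroup P}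
    (hC : ∀ x ∈ C, σ x ∈ C) {y : P} (hy : y ∈ stepSubgroup hA C) :
    σ y ∈ stepSubgroup hA C := by
  refine ⟨hC y hy.1, by rw [← map_mul]; exact hA.inv _ hy.2.1, fun p => ?_⟩
  obtain ⟨p', rfl⟩ := σ.surjective p
  simpa using hA.inv _ (hy.2.2 p')

theorem le_stepSubgroup {A : Subgroup P} (hA : Good (σ := σ) A) {C : Subgroup P} (hC : A ≤ C) :
    A ≤ stepSubgroup hA C := fun a ha =>
  ⟨hC ha, A.mul_mem ha ha, fun p => by
    rw [mul_assoc _ a p, mul_assoc _ p⁻¹]
    exact A.mul_mem (A.inv_mem ha) (by rw [← mul_assoc]; exact hA.conj p a ha)⟩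

/-- The root map: every involution is a `2 ^ j`-th power in a good subgroup of exponent `2 ^ e`. -/
theorem exists_root {A : Subgroup P} (hA : Good (σ := σ) A) {e : ℕ}
    (he : ∀ a ∈ A, a ^ 2 ^ e = 1) (he' : ∃ a ∈ A, a ^ 2 ^ (e - 1) ≠ 1) (he1 : 1 ≤ e) :
    ∀ j, j + 1 ≤ e → ∀ u : P, u * u = 1 → ∃ d ∈ A, d ^ 2 ^ j = u := by
  obtain ⟨a, ha, hne⟩ := he'
  intro j hj u hu
  by_cases hu1 : u = 1
  · exact ⟨1, A.one_mem, by rw [one_pow, hu1]⟩
  have h2 : a ^ 2 ^ (e - 1) * a ^ 2 ^ (e - 1) = 1 := by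
    rw [← pow_add, ← two_mul, ← pow_succ', Nat.sub_add_cancel he1, he a ha]
  obtain ⟨i, rfl⟩ := hd.trans _ u hne h2 hu1 hu
  refine ⟨((σ ^ i) a) ^ 2 ^ (e - 1 - j),
    A.pow_mem (pow_apply_mem (S := (A : Set P)) hA.inv ha i) _, ?_⟩
  rw [← pow_mul, ← pow_add, map_pow, Nat.sub_add_cancel (by omega)]

theorem exists_sqrt {A : Subgroup P} (hA : Good (σ := σ) A) {e : ℕ}
    (he : ∀ a ∈ A, a ^ 2 ^ e = 1) (he' : ∃ a ∈ A, a ^ 2 ^ (e - 1) ≠ 1) (he1 : 1 ≤ e) :
    ∀ j, j + 1 ≤ e → ∀ a ∈ A, a ^ 2 ^ j = 1 → ∃ b ∈ A, b * b = a := by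
  intro j
  induction j with
  | zero => intro _ a _ h; exact ⟨1, A.one_mem, by simpa using h.symm⟩
  | succ j ih =>
    intro hj a ha h
    have hu : a ^ 2 ^ j * a ^ 2 ^ j = 1 := by rw [← pow_add, ← two_mul, ← pow_succ']; exact h
    obtain ⟨d, hdA, hd'⟩ := exists_root hd hA he he' he1 (j + 1) hj _ hu
    have hd2 : (d * d) ∈ A := A.mul_mem hdA hdA
    have hc : Commute a (d * d) := hA.comm _ ha _ hd2
    obtain ⟨b, hb, hbb⟩ := ih (by omega) (a * (d * d)⁻¹) (A.mul_mem ha (A.inv_mem hd2)) (by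
      rw [hc.inv_right.mul_pow, inv_pow, ← pow_two, ← pow_mul, ← pow_succ', hd', mul_inv_cancel])
    refine ⟨b * d, A.mul_mem hb hdA, ?_⟩
    calc b * d * (b * d) = b * (d * b) * d := by simp only [mul_assoc]
      _ = b * b * (d * d) := by rw [hA.comm d hdA b hb]; simp only [mul_assoc]
      _ = a := by rw [hbb, inv_mul_cancel_right]

end Cfsg.Agent.Suzuki2
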