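import Cfsg.Agent.Suzuki2.Basic

/-!
# Suzuki 2-groups: the centre is elementary abelian (Higman)
-/

set_option autoImplicit false
set_option linter.unusedSectionVars false

namespace Cfsg.Agent.Suzuki2

variable {P : Type*} [Group P] {σ : MulAut P}

/-- The commutator `a⁻¹ (y⁻¹ a y)`. -/
def del (y a : P) : P := a⁻¹ * (y⁻¹ * a * y)

theorem del_conj (y a : P) : y⁻¹ * a * y = a * del y a := by simp [del]

theorem del_equiv (y a : P) : del (σ y) (σ a) = σ (del y a) := by simp [del]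

variable (hd : Data σ)
include hd

theorem del_invol {y a : P} (ha : a * a = 1) : del y a = 1 := by
  rw [del, mul_assoc y⁻¹, invol_central hd ha y, inv_mul_cancel_left, inv_mul_cancel]

theorem del_mul_right {A : Subgroup P} (hA : Good (σ := σ) A) {y a b : P} (ha : a ∈ A) (hb : b ∈ A) :
    del y (a * b) = del y a * del y b := by
  have hga : del y a ∈ A := A.mul_mem (A.inv_mem ha) (hA.conj y a ha)
  calc del y (a * b) = b⁻¹ * del y a * (y⁻¹ * b * y) := by simp only [del]; group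
    _ = del y a * b⁻¹ * (y⁻¹ * b * y) := by rw [hA.comm _ (A.inv_mem hb) _ hga]
    _ = _ := by simp only [del]; group

theorem del_mem {A : Subgroup P} (hA : Good (σ := σ) A) {y a : P} (ha : a ∈ A) : del y a ∈ A :=
  A.mul_mem (A.inv_mem ha) (hA.conj y a ha)

theorem del_pow {A : Subgroup P} (hA : Good (σ := σ) A) {y a : P} (ha : a ∈ A) (n : ℕ) :
    del y (a ^ n) = del y a ^ n := by
  induction n with
  | zero => simp [del]
  | succ n ih => rw [pow_succ, del_mul_right hd hA (A.pow_mem ha n) ha, ih, pow_succ]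

theorem del_mul_left {A : Subgroup P} (hA : Good (σ := σ) A) {y y' a : P} (ha : a ∈ A) :
    del (y * y') a = del y' a * (y'⁻¹ * del y a * y') := by simp only [del]; group

/-- The exponent of a good subgroup containing an element of order at least four. -/
theorem exists_exponent {A : Subgroup P} (hA : ∃ a ∈ A, a * a ≠ 1) :
    ∃ e, 2 ≤ e ∧ (∀ a ∈ A, a ^ 2 ^ e = 1) ∧ ∃ a ∈ A, a ^ 2 ^ (e - 1) ≠ 1 := by
  haveI := hd.finite
  classical
  obtain ⟨n, hn⟩ := IsPGroup.iff_card.1 (hd.pgroup.to_subgroup A)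
  have hex : ∃ e, ∀ a ∈ A, a ^ 2 ^ e = 1 := ⟨n, fun a ha => by
    have h := pow_card_eq_one' (G := A) (x := ⟨a, ha⟩)
    rw [← hn]
    exact (SubmonoidClass.coe_pow _ _).symm.trans (congrArg Subtype.val h)⟩
  obtain ⟨a₀, ha₀, hne⟩ := hA
  have he := Nat.find_spec hex
  have h2 : 2 ≤ Nat.find hex := by
    by_contra h
    have h1 : ∀ a ∈ A, a * a = 1 := fun a ha => by
      have := he a ha
      interval_cases hk : Nat.find hex
      · simp at this; rw [this, one_mul]
      · simpa [pow_two] using this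
    exact hne (h1 a₀ ha₀)
  refine ⟨Nat.find hex, h2, he, ?_⟩
  by_contra hall
  simp only [not_exists, not_and, not_not] at hall
  exact Nat.find_min hex (show Nat.find hex - 1 < Nat.find hex by omega) hall

/-- A good subgroup with an element of order four is self-centralising, if it is maximal. -/
theorem centralizer_le {A : Subgroup P} (hA : Good (σ := σ) A)
    (hmax : ∀ B : Subgroup P, Good (σ := σ) B → A ≤ B → B ≤ A)
    (h4 : ∃ a ∈ A, a * a ≠ 1) {y : P} (hy : ∀ a ∈ A, a * y = y * a) : y ∈ A := by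
  classical
  by_contra hyA
  obtain ⟨e, he2, he, he'⟩ := exists_exponent hd h4
  have he1 : 1 ≤ e := by omega
  set C := Subgroup.centralizer (A : Set P) with hC
  have hCn : C.Normal := ⟨fun x hx p => Subgroup.mem_centralizer_iff.2 fun a ha => by
    have h := Subgroup.mem_centralizer_iff.1 hx _ (hA.conj p a ha)
    calc a * (p * x * p⁻¹) = p * ((p⁻¹ * a * p) * x) * p⁻¹ := by group
      _ = _ := by rw [h]; group⟩
  have hCσ : ∀ x ∈ C, σ x ∈ C := fun x hx => Subgroup.mem_centralizer_iff.2 fun a ha => by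
    haveI := hd.finite
    -- `σ` permutes the finite set `A`
    let f : A → A := fun a => ⟨σ a.1, hA.inv a.1 a.2⟩
    have hf : Function.Injective f := fun a b h => Subtype.ext (σ.injective (congrArg Subtype.val h))
    obtain ⟨⟨a', ha'⟩, ha''⟩ := (Finite.injective_iff_surjective.1 hf) ⟨a, ha⟩
    have h := Subgroup.mem_centralizer_iff.1 hx _ ha'
    rw [← show σ a' = a from congrArg Subtype.val ha'', ← map_mul, ← map_mul, h]
  obtain ⟨y₀, hy₀C, hy₀A, hy₀2, hy₀c⟩ := exists_step hd hA C hCn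
    ⟨y, Subgroup.mem_centralizer_iff.2 hy, hyA⟩
  set N := stepSubgroup hA C with hN
  have hAC : A ≤ C := fun a ha => Subgroup.mem_centralizer_iff.2 fun b hb => hA.comm b hb a ha
  have hcy : ∀ y ∈ N, ∀ a ∈ A, a * y = y * a := fun y hy a ha =>
    Subgroup.mem_centralizer_iff.1 hy.1 a ha
  -- the commutator of two elements of `N`
  have hc : ∀ y ∈ N, ∀ y' ∈ N, (y'⁻¹ * y⁻¹ * y' * y) * (y'⁻¹ * y⁻¹ * y' * y) = 1 := by
    intro y hy y' hy'
    set c := y'⁻¹ * y⁻¹ * y' * y with hcdef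
    have hcA : c ∈ A := hy'.2.2 y
    have h1 : y⁻¹ * (y' * y') * y = y' * y' := by
      rw [mul_assoc, hcy y hy _ hy'.2.1, inv_mul_cancel_left]
    have h2 : y' * y' * (c * c) = y' * y' := by
      calc y' * y' * (c * c) = y' * (y' * c) * c := by group
        _ = y' * (c * y') * c := by rw [hcy y' hy' c hcA]
        _ = (y' * c) * (y' * c) := by group
        _ = y⁻¹ * (y' * y') * y := by rw [hcdef]; group
        _ = _ := h1
    exact mul_eq_left.1 h2
  -- the map `y ↦ (y²) ^ (2 ^ (e-1))`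
  let q : P → P := fun y => (y * y) ^ 2 ^ (e - 1)
  have hqI : ∀ y ∈ N, q y * q y = 1 := fun y hy => by
    simp only [q]
    rw [← pow_add, ← two_mul, ← pow_succ', Nat.sub_add_cancel he1, he _ hy.2.1]
  have hq : ∀ y ∈ N, ∀ y' ∈ N, q (y * y') = q y * q y' := by
    intro y hy y' hy'
    have hcc := hc y hy y' hy'
    set c := y'⁻¹ * y⁻¹ * y' * y with hcdef
    have hcen := invol_central hd hcc
    have h1 : y * y' * (y * y') = y * y * (y' * y') * c := by
      calc y * y' * (y * y') = y * y * ((y' * c) * y') := by rw [hcdef]; group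
        _ = _ := by rw [mul_assoc y' c y', hcen y']; group
    simp only [q]
    rw [h1, (show Commute (y * y * (y' * y')) c from (hcen _).symm).mul_pow,
      (show Commute (y * y) (y' * y') from hA.comm _ hy.2.1 _ hy'.2.1).mul_pow]
    have : c ^ 2 ^ (e - 1) = 1 := by
      rw [show e - 1 = e - 2 + 1 by omega, pow_succ', pow_mul, pow_two, hcc, one_pow]
    rw [this, mul_one]
  have hqA : ∀ y ∈ N, q y = 1 → y ∈ A := by
    intro y hy h
    obtain ⟨b, hb, hbb⟩ := exists_sqrt hd hA he he' he1 (e - 1) (by omega) _ hy.2.1 h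
    have hcb : Commute y b⁻¹ := (hcy y hy _ (A.inv_mem hb)).symm
    have h2 : y * b⁻¹ * (y * b⁻¹) = 1 := by
      calc y * b⁻¹ * (y * b⁻¹) = y * (b⁻¹ * y) * b⁻¹ := by group
        _ = y * (y * b⁻¹) * b⁻¹ := by rw [hcb.eq]
        _ = y * y * (b * b)⁻¹ := by group
        _ = 1 := by rw [hbb, mul_inv_cancel]
    have := A.mul_mem (mem_A_of_sq hd hA h2) hb
    rwa [inv_mul_cancel_right] at this
  have hy₀N : y₀ ∈ N := ⟨hy₀C, hy₀2, hy₀c⟩
  have hqσ : ∀ y, q (σ y) = σ (q y) := fun y => by simp [q]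
  have honto : ∀ u : P, u * u = 1 → ∃ y ∈ N, q y = u := by
    intro u hu
    by_cases hu1 : u = 1
    · exact ⟨1, N.one_mem, by simp [q, hu1]⟩
    obtain ⟨i, rfl⟩ := hd.trans (q y₀) u (fun h => hy₀A (hqA _ hy₀N h)) (hqI _ hy₀N) hu1 hu
    refine ⟨(σ ^ i) y₀, pow_apply_mem (S := (N : Set P))
      (fun x hx => stepSubgroup_inv hd hA hCσ hx) hy₀N i, ?_⟩
    simp [q]
  choose sec hsecN hsec using honto
  -- the commutator map
  let T : P → P → P := fun y u =>
    if h : u * u = 1 then y⁻¹ * (sec u h)⁻¹ * y * sec u h else 1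
  have hT : ∀ y (u : P) (h : u * u = 1), T y u = y⁻¹ * (sec u h)⁻¹ * y * sec u h :=
    fun y u h => dif_pos h
  have hTq : ∀ y ∈ N, ∀ w ∈ N, T y (q w) = y⁻¹ * w⁻¹ * y * w := by
    intro y hy w hw
    rw [hT y _ (hqI w hw)]
    set v := sec _ (hqI w hw)
    have hv : v ∈ N := hsecN _ _
    have hqv : q v = q w := hsec _ _
    have h1 : v * w⁻¹ ∈ A := hqA _ (N.mul_mem hv (N.inv_mem hw)) (by
      have h3 := hq (v * w⁻¹) (N.mul_mem hv (N.inv_mem hw)) w hw
      rw [inv_mul_cancel_right, hqv] at h3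
      exact right_eq_mul.1 h3)
    calc y⁻¹ * v⁻¹ * y * v = y⁻¹ * w⁻¹ * ((v * w⁻¹)⁻¹ * y) * (v * w⁻¹) * w := by group
      _ = y⁻¹ * w⁻¹ * y * w := by rw [hcy y hy _ (A.inv_mem h1)]; group
  have hTI : ∀ y ∈ N, ∀ u : P, u * u = 1 → T y u * T y u = 1 := fun y hy u hu => by
    rw [hT y u hu]; exact hc _ (hsecN u hu) y hy
  have hmain := alt_trivial hd N (fun x hx => stepSubgroup_inv hd hA hCσ hx) q T hqI hq
    (fun y _ => hqσ y) (fun u hu => ⟨sec u hu, hsecN u hu, hsec u hu⟩) hTI ?_ ?_ ?_ ?_ ?_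
  · -- hence `N` is abelian, contradicting maximality
    have hNgood : Good (σ := σ) N := by
      refine ⟨fun a ha b hb => ?_, fun p a ha => ?_, fun a ha => stepSubgroup_inv hd hA hCσ ha,
        hA.center.trans (le_stepSubgroup hd hA hAC)⟩
      · have h := hmain a ha (q b) (hqI b hb)
        rw [hTq a ha b hb] at h
        calc a * b = b * a * (a⁻¹ * b⁻¹ * a * b) := by group
          _ = b * a := by rw [h, mul_one]
      · have := N.mul_mem ha (le_stepSubgroup hd hA hAC (ha.2.2 p))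
        convert this using 1
        group
    exact hy₀A (hmax N hNgood (le_stepSubgroup hd hA hAC) hy₀N)
  · intro y hy y' hy' u hu
    rw [hT _ u hu, hT _ u hu, hT _ u hu]
    set v := sec u hu
    have hcen := invol_central hd (hc v (hsecN u hu) y hy)
    calc (y * y')⁻¹ * v⁻¹ * (y * y') * v
        = y'⁻¹ * ((y⁻¹ * v⁻¹ * y * v) * (v⁻¹ * y' * v)) := by group
      _ = y'⁻¹ * ((v⁻¹ * y' * v) * (y⁻¹ * v⁻¹ * y * v)) := by rw [hcen]
      _ = (y'⁻¹ * v⁻¹ * y' * v) * (y⁻¹ * v⁻¹ * y * v) := by group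
      _ = _ := (hcen _).symm
  · intro y hy u v hu hv
    obtain ⟨s, hs, rfl⟩ : ∃ s ∈ N, q s = u := ⟨_, hsecN u hu, hsec u hu⟩
    obtain ⟨w, hw, rfl⟩ : ∃ w ∈ N, q w = v := ⟨_, hsecN v hv, hsec v hv⟩
    rw [← hq s hs w hw, hTq y hy _ (N.mul_mem hs hw), hTq y hy s hs, hTq y hy w hw]
    have hcen := invol_central hd (hc s hs y hy)
    calc y⁻¹ * (s * w)⁻¹ * y * (s * w) = (y⁻¹ * w⁻¹ * y) * (y⁻¹ * s⁻¹ * y * s) * w := by group
      _ = (y⁻¹ * s⁻¹ * y * s) * (y⁻¹ * w⁻¹ * y) * w := by rw [hcen]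
      _ = _ := by group
  · intro y hy u hu
    obtain ⟨w, hw, rfl⟩ : ∃ w ∈ N, q w = u := ⟨_, hsecN u hu, hsec u hu⟩
    rw [← hqσ, hTq _ (stepSubgroup_inv hd hA hCσ hy) _ (stepSubgroup_inv hd hA hCσ hw),
      hTq y hy w hw]
    simp
  · intro y hy u hu h
    rw [hT y u hu]
    have hyA := hqA y hy h
    rw [mul_assoc _ y, hcy _ (hsecN u hu) y hyA]
    group
  · intro y hy
    rw [hTq y hy y hy]
    group

end Cfsg.Agent.Suzuki2
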