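import Mathlib

/-!
# Central extensions of elementary abelian 2-groups are determined by their squaring maps
-/

set_option autoImplicit false

namespace Cfsg.Agent.Suzuki2

variable {P P' V Z : Type*} [Group P] [Group P'] [CommGroup V] [CommGroup Z]

/-- Two central extensions with the same squaring map are isomorphic. -/
theorem nonempty_iso_of_squares [Finite P] [Finite P'] (π : P →* V) (π' : P' →* V)
    (hπ : Function.Surjective π) (hπ' : Function.Surjective π')
    (hV : ∀ v : V, v * v = 1)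
    (ι : Z →* P) (ι' : Z →* P') (hι : Function.Injective ι) (hι' : Function.Injective ι')
    (hker : ι.range = π.ker) (hker' : ι'.range = π'.ker)
    (hc : ∀ z x, ι z * x = x * ι z) (hc' : ∀ z x, ι' z * x = x * ι' z)
    (hsq : ∀ x x', π x = π' x' → ∃ z, x * x = ι z ∧ x' * x' = ι' z) :
    Nonempty (P ≃* P') := by
  classical
  have hmem : ∀ {x : P}, π x = 1 → ∃ z, ι z = x := fun {x} h =>
    MonoidHom.mem_range.1 (hker ▸ (MonoidHom.mem_ker.2 h))
  have hmem' : ∀ {x : P'}, π' x = 1 → ∃ z, ι' z = x := fun {x} h =>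
    MonoidHom.mem_range.1 (hker' ▸ (MonoidHom.mem_ker.2 h))
  have hπι : ∀ z, π (ι z) = 1 := fun z =>
    MonoidHom.mem_ker.1 (hker ▸ ⟨z, rfl⟩ : ι z ∈ π.ker)
  have hπι' : ∀ z, π' (ι' z) = 1 := fun z =>
    MonoidHom.mem_ker.1 (hker' ▸ ⟨z, rfl⟩ : ι' z ∈ π'.ker)
  let M : Subgroup (P × P') := MonoidHom.eqLocus (π.comp (MonoidHom.fst P P'))
    (π'.comp (MonoidHom.snd P P'))
  let Δ : Subgroup (P × P') := (ι.prod ι').range
  have hΔM : Δ ≤ M := by
    rintro _ ⟨z, rfl⟩
    show π (ι z) = π' (ι' z)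
    rw [hπι, hπι']
  have hΔc : ∀ d ∈ Δ, ∀ x : P × P', d * x = x * d := by
    rintro _ ⟨z, rfl⟩ x
    exact Prod.ext (hc z x.1) (hc' z x.2)
  have hMsq : ∀ x ∈ M, x * x ∈ Δ := by
    intro x hx
    obtain ⟨z, h1, h2⟩ := hsq x.1 x.2 hx
    exact ⟨z, Prod.ext h1.symm h2.symm⟩
  -- commutators of elements of `M` lie in `Δ`
  have hMcomm : ∀ x ∈ M, ∀ y ∈ M, ∃ d ∈ Δ, x * y = d * (y * x) := by
    intro x hx y hy
    refine ⟨x * y * x⁻¹ * y⁻¹, ?_, by group⟩
    have h1 := hMsq _ (M.mul_mem hx hy)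
    have h2 := hMsq x hx
    have h3 := hMsq y hy
    have e : x * y * x⁻¹ * y⁻¹ = x * y * (x * y) * ((y * y)⁻¹ * (x * x)⁻¹) := by
      have hy2 := hΔc _ (Δ.inv_mem h3)
      calc x * y * x⁻¹ * y⁻¹ = x * y * x⁻¹ * ((y * y)⁻¹ * y) := by group
        _ = x * y * ((y * y)⁻¹ * x⁻¹) * y := by rw [hy2 x⁻¹]; group
        _ = x * y * ((y * y)⁻¹ * ((x * x)⁻¹ * x)) * y := by group
        _ = x * y * (((y * y)⁻¹ * (x * x)⁻¹) * (x * y)) := by group
        _ = x * y * ((x * y) * ((y * y)⁻¹ * (x * x)⁻¹)) := by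
            rw [hΔc _ (Δ.mul_mem (Δ.inv_mem h3) (Δ.inv_mem h2)) (x * y)]
        _ = _ := by group
    rw [e]
    exact Δ.mul_mem h1 (Δ.mul_mem (Δ.inv_mem h3) (Δ.inv_mem h2))
  -- a maximal subgroup meeting the kernel of the first projection trivially
  let good : Subgroup (P × P') → Prop := fun L =>
    Δ ≤ L ∧ L ≤ M ∧ ∀ k : P, π k = 1 → (k, (1 : P')) ∈ L → k = 1
  have hΔgood : good Δ := by
    refine ⟨le_rfl, hΔM, fun k _ hmem => ?_⟩
    obtain ⟨z, hz⟩ := hmem
    have h2 : ι' z = 1 := congrArg Prod.snd hz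
    rw [← map_one ι'] at h2
    rw [hι' h2] at hz
    exact ((map_one ι).symm.trans (congrArg Prod.fst hz)).symm
  obtain ⟨L, ⟨hΔL, hLM, hL⟩, hmax⟩ :=
    (Set.toFinite {L | good L}).exists_maximal ⟨Δ, hΔgood⟩
  -- `L` together with the kernel covers `M`
  have hcover : ∀ m ∈ M, ∃ k : P, π k = 1 ∧ m * (k, 1) ∈ L := by
    intro m hm
    by_contra hno
    simp only [not_exists, not_and] at hno
    have hsw : ∀ l ∈ L, ∃ l' ∈ L, m * l = l' * m := fun l hl => by
      obtain ⟨d, hd, he⟩ := hMcomm m hm l (hLM hl)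
      exact ⟨d * l, L.mul_mem (hΔL hd) hl, by rw [he, mul_assoc]⟩
    let L₁ : Subgroup (P × P') :=
      { carrier := {x | x ∈ L ∨ m⁻¹ * x ∈ L}
        one_mem' := Or.inl L.one_mem
        mul_mem' := by
          rintro x y hx hy
          rcases hx with hx | hx <;> rcases hy with hy | hy
          · exact Or.inl (L.mul_mem hx hy)
          · obtain ⟨l', hl', he⟩ := hsw _ hy
            refine Or.inr ?_
            obtain ⟨d, hd, he'⟩ := hMcomm x (hLM hx) m hm
            have : m⁻¹ * (x * y) = d * x * (m⁻¹ * y) := by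
              calc m⁻¹ * (x * y) = m⁻¹ * (x * m) * (m⁻¹ * y) := by group
                _ = m⁻¹ * d * m * x * (m⁻¹ * y) := by rw [he']; group
                _ = _ := by rw [← hΔc d hd m⁻¹]; group
            rw [this]
            exact L.mul_mem (L.mul_mem (hΔL hd) hx) hy
          · exact Or.inr (by rw [← mul_assoc]; exact L.mul_mem hx hy)
          · obtain ⟨l', hl', he⟩ := hsw _ hy
            refine Or.inl ?_
            obtain ⟨l'', hl'', he'⟩ := hsw _ hx
            have : x * y = l'' * (m * m) * (m⁻¹ * y) := by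
              calc x * y = m * (m⁻¹ * x) * m * (m⁻¹ * y) := by group
                _ = _ := by rw [he']; group
            rw [this]
            exact L.mul_mem (L.mul_mem hl'' (hΔL (hMsq m hm))) hy
        inv_mem' := by
          rintro x (hx | hx)
          · exact Or.inl (L.inv_mem hx)
          · refine Or.inr ?_
            obtain ⟨l', hl', he⟩ := hsw _ hx
            have : m⁻¹ * x⁻¹ = (m * m)⁻¹ * l'⁻¹ := by
              calc m⁻¹ * x⁻¹ = m⁻¹ * (m * (m⁻¹ * x))⁻¹ := by group
                _ = _ := by rw [he]; group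
            rw [this]
            exact L.mul_mem (L.inv_mem (hΔL (hMsq m hm))) (L.inv_mem hl') }
    have hgood : good L₁ := by
      refine ⟨fun x hx => Or.inl (hΔL hx), ?_, fun k hk hmem => ?_⟩
      · rintro x (hx | hx)
        · exact hLM hx
        · have := M.mul_mem hm (hLM hx)
          rwa [mul_inv_cancel_left] at this
      · rcases hmem with hmem | hmem
        · exact hL k hk hmem
        · exfalso
          obtain ⟨z, rfl⟩ : ∃ z, ι z = k := MonoidHom.mem_range.1 (hker ▸ (MonoidHom.mem_ker.2 hk))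
          refine hno (ι z)⁻¹ (by rw [map_inv, hπι, inv_one]) ?_
          have h := L.inv_mem hmem
          have e : m * ((ι z)⁻¹, (1 : P')) = ((ι z)⁻¹, (1 : P')) * m :=
            Prod.ext (by
              show m.1 * (ι z)⁻¹ = (ι z)⁻¹ * m.1
              rw [← map_inv, hc]) (by simp)
          rw [e]
          convert h using 1
          rw [mul_inv_rev, inv_inv]
          exact Prod.ext rfl (by simp)
    have hle : L ≤ L₁ := fun x hx => Or.inl hx
    refine hno 1 (map_one π) ?_
    rw [show ((1 : P), (1 : P')) = 1 from rfl, mul_one]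
    exact hmax hgood hle (Or.inr (by simp : m⁻¹ * m ∈ L))
  -- the projections of `L` are bijective
  let p₁ : L →* P := (MonoidHom.fst P P').comp L.subtype
  let p₂ : L →* P' := (MonoidHom.snd P P').comp L.subtype
  have hb₁ : Function.Bijective p₁ := by
    constructor
    · refine (injective_iff_map_eq_one p₁).2 ?_
      rintro ⟨⟨x, x'⟩, hl⟩ h
      have hx : x = 1 := h
      subst hx
      obtain ⟨z, rfl⟩ := hmem' (x := x') ((map_one π).symm.trans (hLM hl : π (1 : P) = π' x')).symm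
      have h1 : ((ι z)⁻¹, (1 : P')) ∈ L := by
        have := L.mul_mem (L.inv_mem (hΔL ⟨z, rfl⟩)) hl
        convert this using 1
        exact Prod.ext (by simp) (by simp)
      have h2 : ι z = 1 :=
        inv_eq_one.1 (hL _ (by rw [map_inv, hπι, inv_one]) h1)
      rw [← map_one ι] at h2
      exact Subtype.ext (Prod.ext rfl (by show ι' z = 1; rw [hι h2, map_one]))
    · intro x
      obtain ⟨x', hx'⟩ := hπ' (π x)
      obtain ⟨k, hk, hkL⟩ := hcover (x, x') hx'.symm
      obtain ⟨z, rfl⟩ := hmem hk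
      refine ⟨⟨_, L.mul_mem hkL (L.inv_mem (hΔL ⟨z, rfl⟩))⟩, ?_⟩
      show x * ι z * (ι z)⁻¹ = x
      group
  have hb₂ : Function.Bijective p₂ := by
    constructor
    · refine (injective_iff_map_eq_one p₂).2 ?_
      rintro ⟨⟨x, x'⟩, hl⟩ h
      have hx : x' = 1 := h
      subst hx
      exact Subtype.ext (Prod.ext (hL x ((hLM hl : π x = π' (1 : P')).trans (map_one π')) hl) rfl)
    · intro x'
      obtain ⟨x, hx⟩ := hπ (π' x')
      obtain ⟨k, -, hkL⟩ := hcover (x, x') hx
      exact ⟨⟨_, hkL⟩, mul_one x'⟩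
  exact ⟨(MulEquiv.ofBijective p₁ hb₁).symm.trans (MulEquiv.ofBijective p₂ hb₂)⟩

end Cfsg.Agent.Suzuki2
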