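import Cfsg.Agent.Suzuki2.Elementary
import Cfsg.Agent.Suzuki2.Autos

/-!
# Suzuki 2-groups: squares and commutators are central (Higman)
-/

set_option autoImplicit false
set_option linter.unusedSectionVars false

namespace Cfsg.Agent.Suzuki2

variable {P : Type*} [Group P] {σ : MulAut P}

theorem zmod_two_eq_one : ∀ a : ZMod 2, a ≠ 0 → a = 1 := by decide

variable (hd : Data σ)
include hd

/-- The automorphism fixes only the identity. -/
theorem fixed_eq_one {z : P} (hz : σ z = z) : z = 1 := by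
  haveI := hd.finite
  classical
  by_contra hz1
  obtain ⟨n, hn⟩ := hd.pgroup z
  have hex : ∃ k, z ^ 2 ^ k = 1 := ⟨n, hn⟩
  have hk0 := Nat.find_spec hex
  rcases hk : Nat.find hex with _ | k
  · rw [hk] at hk0; exact hz1 (by simpa using hk0)
  rw [hk] at hk0
  have hne : z ^ 2 ^ k ≠ 1 := Nat.find_min hex (show k < Nat.find hex by omega)
  have h2 : z ^ 2 ^ k * z ^ 2 ^ k = 1 := by rw [← pow_add, ← two_mul, ← pow_succ', hk0]
  have h1 : σ ^ 1 = 1 := hd.regular 1 _ hne h2 (by rw [pow_one, map_pow, hz])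
  obtain ⟨x, y, hxy, hx1, hx2, hy1, hy2⟩ := hd.two
  obtain ⟨i, hi⟩ := hd.trans x y hx1 hx2 hy1 hy2
  rw [pow_one] at h1
  rw [h1, one_pow] at hi
  exact hxy (by simpa using hi)

/-- In a maximal good subgroup with an element of order four, the fourth powers are trivial. -/
theorem exponent_four {A : Subgroup P} (hA : Good (σ := σ) A)
    (hmax : ∀ B : Subgroup P, Good (σ := σ) B → A ≤ B → B ≤ A) :
    ∀ a ∈ A, a * a * (a * a) = 1 := by
  intro a ha
  by_cases h4 : ∃ a ∈ A, a * a ≠ 1
  · obtain ⟨e, he2, he, he'⟩ := exists_exponent hd h4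
    by_cases he3 : 3 ≤ e
    · exact (no_eight hd hA hmax he3 he he').elim
    · have : e = 2 := by omega
      subst this
      have := he a ha
      simpa [pow_succ, mul_assoc] using this
  · simp only [not_exists, not_and, not_not] at h4
    rw [h4 a ha, one_mul]

/-- Squares and commutators of a Suzuki 2-group are central. -/
theorem sq_comm_central :
    (∀ x : P, x * x ∈ Subgroup.center P) ∧
      ∀ x p : P, x⁻¹ * p⁻¹ * x * p ∈ Subgroup.center P := by
  haveI := hd.finite
  classical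
  have hcZ := center_good hd
  set M := stepSubgroup hcZ (⊤ : Subgroup P) with hM
  have hMσ : ∀ y ∈ M, σ y ∈ M := fun y hy =>
    stepSubgroup_inv hd hcZ (fun x _ => Subgroup.mem_top _) hy
  have hMn : ∀ p : P, ∀ y ∈ M, p⁻¹ * y * p ∈ M := by
    intro p y hy
    have h := M.mul_mem hy (le_stepSubgroup hd hcZ le_top (hy.2.2 p))
    convert h using 1
    group
  by_cases hcase : ∀ a ∈ M, (∀ m ∈ M, a * m = m * a) → a ∈ Subgroup.center P
  · set C := Subgroup.centralizer (M : Set P) with hC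
    have hCn : C.Normal := ⟨fun x hx p => Subgroup.mem_centralizer_iff.2 fun m hm => by
      have h := Subgroup.mem_centralizer_iff.1 hx _ (hMn p m hm)
      calc m * (p * x * p⁻¹) = p * ((p⁻¹ * m * p) * x) * p⁻¹ := by group
        _ = _ := by rw [h]; group⟩
    have hCM : ∀ x ∈ C, x ∈ Subgroup.center P := by
      intro x hx
      by_contra hxZ
      obtain ⟨y, hyC, hyZ, hy2, hyc⟩ := exists_step hd hcZ C hCn ⟨x, hx, hxZ⟩
      exact hyZ (hcase y ⟨Subgroup.mem_top _, hy2, hyc⟩ fun m hm =>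
        (Subgroup.mem_centralizer_iff.1 hyC m hm).symm)
    have hcom : ∀ x p : P, x⁻¹ * p⁻¹ * x * p ∈ Subgroup.center P := by
      intro x p
      refine hCM _ (Subgroup.mem_centralizer_iff.2 fun m hm => ?_)
      -- conjugation multiplies `m` by a central element
      let z : P → P := fun q => m⁻¹ * q⁻¹ * m * q
      have hz : ∀ q, z q ∈ Subgroup.center P := fun q => hm.2.2 q
      have hzc : ∀ q r, r * z q = z q * r := fun q r => Subgroup.mem_center_iff.1 (hz q) r
      have hzmul : ∀ q r, z (q * r) = z q * z r := fun q r => by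
        calc z (q * r) = m⁻¹ * r⁻¹ * m * (z q * r) := by simp only [z]; group
          _ = m⁻¹ * r⁻¹ * m * (r * z q) := by rw [hzc q r]
          _ = z r * z q := by simp only [z]; group
          _ = _ := (hzc r (z q)).symm
      have hz1 : z 1 = 1 := by simp [z]
      have hzi : ∀ q, z q⁻¹ = (z q)⁻¹ := fun q =>
        eq_inv_of_mul_eq_one_left (by rw [← hzmul, inv_mul_cancel, hz1])
      have h1 : z (x⁻¹ * p⁻¹ * x * p) = 1 := by
        rw [hzmul, hzmul, hzmul, hzi, hzi, mul_assoc (z x)⁻¹ (z p)⁻¹ (z x),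
          hzc x (z p)⁻¹, ← mul_assoc (z x)⁻¹ (z x), inv_mul_cancel, one_mul, inv_mul_cancel]
      calc m * (x⁻¹ * p⁻¹ * x * p)
          = (x⁻¹ * p⁻¹ * x * p) * m * z (x⁻¹ * p⁻¹ * x * p) := by simp only [z]; group
        _ = _ := by rw [h1, mul_one]
    refine ⟨fun x => hCM _ (Subgroup.mem_centralizer_iff.2 fun m hm => ?_), hcom⟩
    have hz := Subgroup.mem_center_iff.1 (hm.2.2 x)
    have hz2 := center_sq hd _ (hm.2.2 x)
    set z := m⁻¹ * x⁻¹ * m * x with hzdef
    calc m * (x * x) = x * (m * z) * x := by rw [hzdef]; group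
      _ = x * (m * (x * z)) := by rw [mul_assoc x, mul_assoc m, ← hz x]
      _ = x * (x * (m * z) * z) := by rw [hzdef]; group
      _ = x * x * m * (z * z) := by group
      _ = _ := by rw [hz2, mul_one]
  -- there is an abelian invariant subgroup of order `q²`
  exfalso
  simp only [not_forall] at hcase
  obtain ⟨a₀, ha₀M, ha₀c, ha₀Z⟩ := hcase
  let A₀ : Subgroup P := M ⊓ Subgroup.centralizer (M : Set P)
  have hA₀ : Good (σ := σ) A₀ := by
    refine ⟨fun a ha b hb => Subgroup.mem_centralizer_iff.1 hb.2 a ha.1, fun p a ha => ⟨hMn p a ha.1,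
      Subgroup.mem_centralizer_iff.2 fun m hm => ?_⟩, fun a ha => ⟨hMσ a ha.1,
      Subgroup.mem_centralizer_iff.2 fun m hm => ?_⟩,
      fun z hz => ⟨le_stepSubgroup hd hcZ le_top hz,
        Subgroup.mem_centralizer_iff.2 fun m _ => Subgroup.mem_center_iff.1 hz m⟩⟩
    · have h := Subgroup.mem_centralizer_iff.1 ha.2 _ (hMn p⁻¹ m hm)
      rw [inv_inv] at h
      calc m * (p⁻¹ * a * p) = p⁻¹ * ((p * m * p⁻¹) * a) * p := by group
        _ = _ := by rw [h]; group
    · obtain ⟨⟨m', hm'⟩, hm''⟩ := (Finite.injective_iff_surjective.1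
        (show Function.Injective (fun a : M => (⟨σ a.1, hMσ a.1 a.2⟩ : M)) from
          fun a b h => Subtype.ext (σ.injective (congrArg Subtype.val h)))) ⟨m, hm⟩
      rw [← show σ m' = m from congrArg Subtype.val hm'', ← map_mul, ← map_mul,
        Subgroup.mem_centralizer_iff.1 ha.2 m' hm']
  have ha₀A : a₀ ∈ A₀ := ⟨ha₀M, Subgroup.mem_centralizer_iff.2 fun m hm => (ha₀c m hm).symm⟩
  obtain ⟨A, ⟨hA, hA₀le⟩, hmaxA⟩ :=
    (Set.toFinite {B : Subgroup P | Good (σ := σ) B ∧ A₀ ≤ B}).exists_maximal ⟨A₀, hA₀, le_rfl⟩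
  have hmax : ∀ B : Subgroup P, Good (σ := σ) B → A ≤ B → B ≤ A := fun B hB hle =>
    hmaxA ⟨hB, hA₀le.trans hle⟩ hle
  have hA4 := exponent_four hd hA hmax
  have ha₀2 : a₀ * a₀ ≠ 1 := fun h => ha₀Z (mem_A_of_sq hd hcZ h)
  have h4 : ∃ a ∈ A, a * a ≠ 1 := ⟨a₀, hA₀le ha₀A, ha₀2⟩
  have hsc : ∀ y : P, (∀ a ∈ A, a * y = y * a) → y ∈ A := fun y hy =>
    centralizer_le hd hA hmax h4 hy
  have hAA₀ : A ≤ A₀ := by
    intro a ha
    by_cases h1 : a * a = 1
    · exact hA₀.center (mem_A_of_sq hd hcZ h1)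
    have h0 : a₀ * a₀ * (a₀ * a₀) = 1 := hA4 a₀ (hA₀le ha₀A)
    obtain ⟨i, hi⟩ := hd.trans (a₀ * a₀) (a * a) ha₀2 h0 h1 (hA4 a ha)
    have hb : (σ ^ i) a₀ ∈ A₀ := pow_apply_mem (S := (A₀ : Set P)) hA₀.inv ha₀A i
    rw [map_mul] at hi
    have h2 : a * ((σ ^ i) a₀)⁻¹ * (a * ((σ ^ i) a₀)⁻¹) = 1 := by
      have hc : Commute a ((σ ^ i) a₀)⁻¹ := (hA.comm _ ha _ (hA₀le hb) : _ = _) |> fun h =>
        (show Commute a ((σ ^ i) a₀) from h).inv_right
      calc a * ((σ ^ i) a₀)⁻¹ * (a * ((σ ^ i) a₀)⁻¹)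
          = a * (((σ ^ i) a₀)⁻¹ * a) * ((σ ^ i) a₀)⁻¹ := by group
        _ = a * (a * ((σ ^ i) a₀)⁻¹) * ((σ ^ i) a₀)⁻¹ := by rw [← hc.eq]
        _ = a * a * ((σ ^ i) a₀ * (σ ^ i) a₀)⁻¹ := by group
        _ = 1 := by rw [hi, mul_inv_cancel]
    have := A₀.mul_mem (hA₀.center (mem_A_of_sq hd hcZ h2)) hb
    rwa [inv_mul_cancel_right] at this
  have hMA : ∀ m ∈ M, m ∈ A := fun m hm => hsc m fun a ha =>
    (Subgroup.mem_centralizer_iff.1 (hAA₀ ha).2 m hm).symm
  -- a field structure on the involutions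
  let I := invSubgroup hd
  letI : CommGroup I :=
    { (inferInstance : Group I) with
      mul_comm := fun a b => Subtype.ext (invol_central hd a.2 b) }
  let t : AddMonoid.End (Additive I) :=
    MonoidHom.toAdditive
      ((σ.toMonoidHom.comp I.subtype).codRestrict I fun a => by
        show σ a.1 * σ a.1 = 1
        rw [← map_mul, show a.1 * a.1 = 1 from a.2, map_one])
  have htpow : ∀ (i : ℕ) (a : Additive I),
      ((Additive.toMul ((t ^ i) a) : I) : P) = (σ ^ i) (Additive.toMul a).1 := by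
    intro i
    induction i with
    | zero => intro a; rfl
    | succ i ih => intro a; rw [pow_apply_succ, ← ih a, pow_succ']; rfl
  have hext : ∀ {a b : Additive I}, (Additive.toMul a : I).1 = (Additive.toMul b : I).1 → a = b :=
    fun h => Additive.toMul.injective (Subtype.ext h)
  haveI : Nontrivial (Additive I) := ⟨Additive.ofMul ⟨a₀ * a₀, hA4 a₀ (hA₀le ha₀A)⟩, 0,
    fun h => ha₀2 (congrArg (fun a : Additive I => (Additive.toMul a).1) h)⟩
  obtain ⟨F, instF, instFt, e, l, hel, hgen⟩ := exists_field (E := Additive I) (σ := t)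
    (by
      intro a b ha hb
      obtain ⟨i, hi⟩ := hd.trans _ _ (fun h => ha (hext h)) (Additive.toMul a).2
        (fun h => hb (hext h)) (Additive.toMul b).2
      exact ⟨i, hext ((htpow i a).trans hi)⟩)
    (by
      intro a ha
      refine hext ?_
      have h : σ (Additive.toMul a).1 = 1 := congrArg (fun a : Additive I => (Additive.toMul a).1) ha
      exact EmbeddingLike.map_eq_one_iff.1 h)
    (exists_ne 0)
  letI := instF
  letI := instFt
  have htwo : ∀ x : F, x + x = 0 := fun x => by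
    obtain ⟨a, rfl⟩ := e.surjective x
    rw [← map_add, ← map_zero e]
    exact congrArg e (hext (Additive.toMul a).2)
  haveI : CharP F 2 :=
    CharTwo.of_one_ne_zero_of_two_eq_zero one_ne_zero (by rw [← one_add_one_eq_two, htwo])
  haveI : Fact (Nat.Prime 2) := ⟨Nat.prime_two⟩
  -- coordinates of involutions
  let pre : F → P := fun x => (Additive.toMul (e.symm x)).1
  have hpreI : ∀ x, pre x * pre x = 1 := fun x => (Additive.toMul (e.symm x)).2
  have hpreadd : ∀ x y, pre (x + y) = pre x * pre y := fun x y => by simp only [pre, map_add]; rfl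
  have hpre0 : pre 0 = 1 := by simp [pre]
  have hpreinj : Function.Injective pre := fun x y h => e.symm.injective (hext h)
  let ε : P → F := fun u => if h : u * u = 1 then e (Additive.ofMul ⟨u, h⟩) else 0
  have hε : ∀ u, u * u = 1 → pre (ε u) = u := fun u hu => by
    simp [ε, dif_pos hu, pre]
  have hεpre : ∀ x, ε (pre x) = x := fun x => hpreinj (hε _ (hpreI x))
  have hεmul : ∀ u v, u * u = 1 → v * v = 1 → ε (u * v) = ε u + ε v := fun u v hu hv =>
    hpreinj (by rw [hε _ (invol_mul hd hu hv), hpreadd, hε u hu, hε v hv])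
  have hεσ : ∀ u, u * u = 1 → ε (σ u) = l * ε u := by
    intro u hu
    have hu' : σ u * σ u = 1 := by rw [← map_mul, hu, map_one]
    simp only [ε, dif_pos hu, dif_pos hu']
    rw [← hel]
    rfl
  have hpreσ : ∀ x, pre (l * x) = σ (pre x) := fun x => by
    conv_lhs => rw [← hεpre x]
    rw [← hεσ _ (hpreI x), hε]
    rw [← map_mul, hpreI, map_one]
  have hl0 : l ≠ 0 := by
    intro h
    have h1 := hpreσ 1
    rw [h, zero_mul, hpre0] at h1
    exact one_ne_zero (hpreinj ((EmbeddingLike.map_eq_one_iff.1 h1.symm).trans hpre0.symm))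
  -- square roots in `A`
  have hroot : ∀ x : F, ∃ a ∈ A, a * a = pre x := by
    intro x
    by_cases hx : pre x = 1
    · exact ⟨1, A.one_mem, by rw [hx, one_mul]⟩
    obtain ⟨i, hi⟩ := hd.trans (a₀ * a₀) (pre x) ha₀2 (hA4 a₀ (hA₀le ha₀A)) hx (hpreI x)
    exact ⟨(σ ^ i) a₀, pow_apply_mem (S := (A : Set P)) hA.inv (hA₀le ha₀A) i,
      by rw [← map_mul, hi]⟩
  choose rt hrtA hrt using hroot
  have hdelI : ∀ y, ∀ a ∈ A, del y a * del y a = 1 := fun y a ha => by
    rw [← del_mul_right hd hA ha ha, del_invol hd (hA4 a ha)]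
  have hdelsq : ∀ y, ∀ a ∈ A, del y a = del y (rt (ε (a * a))) := by
    intro y a ha
    have hr := hrtA (ε (a * a))
    set r := rt (ε (a * a)) with hrdef
    have hrr : r * r = a * a := by rw [hrdef, hrt, hε _ (hA4 a ha)]
    have hc : Commute a r⁻¹ := (show Commute a r from hA.comm a ha r hr).inv_right
    have h2 : a * r⁻¹ * (a * r⁻¹) = 1 := by
      calc a * r⁻¹ * (a * r⁻¹) = a * (r⁻¹ * a) * r⁻¹ := by group
        _ = a * (a * r⁻¹) * r⁻¹ := by rw [← hc.eq]
        _ = a * a * (r * r)⁻¹ := by group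
        _ = 1 := by rw [hrr, mul_inv_cancel]
    have := del_mul_right hd hA (y := y) (A.mul_mem ha (A.inv_mem hr)) hr
    rwa [inv_mul_cancel_right, del_invol hd h2, one_mul] at this
  let Dop : P → F →+ F := fun y => AddMonoidHom.mk' (fun x => ε (del y (rt x))) (fun x x' => by
    rw [← hεmul _ _ (hdelI y _ (hrtA x)) (hdelI y _ (hrtA x')),
      ← del_mul_right hd hA (hrtA x) (hrtA x'), hdelsq y _ (A.mul_mem (hrtA x) (hrtA x'))]
    congr 3
    refine hpreinj ?_
    have hsq : rt x * rt x' * (rt x * rt x') = pre x * pre x' := by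
      calc rt x * rt x' * (rt x * rt x') = rt x * (rt x' * rt x) * rt x' := by group
        _ = rt x * (rt x * rt x') * rt x' := by rw [hA.comm _ (hrtA x') _ (hrtA x)]
        _ = (rt x * rt x) * (rt x' * rt x') := by group
        _ = _ := by rw [hrt, hrt]
    rw [hε _ (hA4 _ (A.mul_mem (hrtA x) (hrtA x'))), hsq, hpreadd])
  have hDop : ∀ y, ∀ a ∈ A, Dop y (ε (a * a)) = ε (del y a) := fun y a ha => by
    show ε (del y (rt _)) = _
    rw [← hdelsq y a ha]
  choose c hc using fun y => FieldMaps.exists_coeff 2 (Dop y)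
  have hcext : ∀ y (g : (F ≃+* F) → F), (∀ x, Dop y x = ∑ τ, g τ * τ x) → c y = g := by
    intro y g h
    refine sub_eq_zero.1 (FieldMaps.sum_aut_eq_zero fun x => ?_)
    simp only [Pi.sub_apply, sub_mul, Finset.sum_sub_distrib, ← hc, ← h, sub_self]
  have hcmul : ∀ y y', c (y * y') = c y + c y' := by
    intro y y'
    refine hcext _ _ fun x => ?_
    simp only [Pi.add_apply, add_mul, Finset.sum_add_distrib, ← hc]
    show ε (del (y * y') (rt x)) = ε (del y (rt x)) + ε (del y' (rt x))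
    have h1 := hdelI y _ (hrtA x)
    rw [del_mul_left hd hA (hrtA x), mul_assoc y'⁻¹, invol_central hd h1 y', inv_mul_cancel_left,
      hεmul _ _ (hdelI y' _ (hrtA x)) h1, add_comm]
  have hcA : ∀ y, c y = 0 ↔ y ∈ A := by
    intro y
    constructor
    · intro h
      refine hsc y fun a ha => ?_
      have h1 : ε (del y a) = 0 := by rw [← hDop y a ha, hc, h]; simp
      have h2 : del y a = 1 := by rw [← hε _ (hdelI y a ha), h1, hpre0]
      have h3 := del_conj y a
      rw [h2, mul_one] at h3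
      calc a * y = y * (y⁻¹ * a * y) := by group
        _ = y * a := by rw [h3]
    · intro hy
      refine hcext y 0 fun x => ?_
      show ε (del y (rt x)) = _
      rw [del, mul_assoc y⁻¹, hA.comm _ (hrtA x) y hy, inv_mul_cancel_left, inv_mul_cancel]
      simp only [Pi.zero_apply, zero_mul, Finset.sum_const_zero]
      rw [← hpre0, hεpre]
  let κ : (F ≃+* F) → F := fun τ => l / τ l
  have hcσ : ∀ y τ, c (σ y) τ = κ τ * c y τ := by
    intro y
    refine fun τ => congrFun (hcext (σ y) (fun τ => κ τ * c y τ) fun x => ?_) τ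
    obtain ⟨x, rfl⟩ : ∃ x', x = l * x' := ⟨x / l, (mul_div_cancel₀ x hl0).symm⟩
    have h1 : Dop (σ y) (l * x) = l * Dop y x := by
      show ε (del (σ y) (rt (l * x))) = l * ε (del y (rt x))
      rw [← hεσ _ (hdelI y _ (hrtA x)), ← del_equiv, hdelsq (σ y) _ (hA.inv _ (hrtA x))]
      congr 3
      refine hpreinj ?_
      rw [hε _ (hA4 _ (hA.inv _ (hrtA x))), ← map_mul, hrt, hpreσ]
    rw [h1, hc, Finset.mul_sum]
    refine Finset.sum_congr rfl fun τ _ => ?_
    have : τ l ≠ 0 := by simpa using hl0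
    simp only [κ, map_mul]
    field_simp
  -- `τ ↦ κ τ` is injective up to conjugacy
  have hκinj : ∀ τ τ' π : F ≃+* F, κ τ = π (κ τ') → τ = τ' := by
    intro τ τ' π h
    have hpow : ∀ i : ℕ, π (l ^ i) * τ (l ^ i) = l ^ i * π (τ' (l ^ i)) := by
      intro i
      have hτl : τ l ≠ 0 := by simpa using hl0
      have hτ'l : π (τ' l) ≠ 0 := by simpa using hl0
      have h1 : π l * τ l = l * π (τ' l) := by
        simp only [κ, map_div₀] at h
        rw [div_eq_div_iff hτl hτ'l] at h
        exact h.symm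
      simp only [map_pow, ← mul_pow, h1]
    have hall : ∀ x : F, π x * τ x = (RingEquiv.refl F) x * (τ'.trans π) x := by
      intro x
      by_cases hx : x = 0
      · simp [hx]
      obtain ⟨i, rfl⟩ := hgen x hx
      simpa using hpow i
    rcases pair_eq hall with ⟨h1, h2⟩ | ⟨h1, h2⟩
    · rw [h2, h1]; exact RingEquiv.ext fun x => rfl
    · refine RingEquiv.ext fun x => ?_
      have : π (τ' x) = π x := by
        conv_rhs => rw [h1]
        rfl
      rw [h2, π.injective this]; rfl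
  -- separating polynomials
  letI : Algebra (ZMod 2) F := ZMod.algebra F 2
  have hsep : ∀ τ τ' : F ≃+* F, τ ≠ τ' →
      ∃ S : Finset ℕ, ∑ i ∈ S, κ τ' ^ i = 0 ∧ ∑ i ∈ S, κ τ ^ i ≠ 0 := by
    intro τ τ' hne
    set p := minpoly (ZMod 2) (κ τ') with hp
    have hev : ∀ x : F, Polynomial.aeval x p = ∑ i ∈ p.support, x ^ i := by
      intro x
      rw [Polynomial.aeval_def, Polynomial.eval₂_eq_sum, Polynomial.sum]
      refine Finset.sum_congr rfl fun i hi => ?_
      have : p.coeff i = 1 := (zmod_two_eq_one _ (Polynomial.mem_support_iff.1 hi))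
      rw [this, map_one, one_mul]
    refine ⟨p.support, by rw [← hev]; exact minpoly.aeval _ _, fun h0 => hne ?_⟩
    rw [← hev] at h0
    have hint : IsIntegral (ZMod 2) (κ τ') := IsIntegral.of_finite _ _
    have hconj : IsConjRoot (ZMod 2) (κ τ') (κ τ) :=
      (isConjRoot_iff_aeval_eq_zero hint).2 h0
    obtain ⟨π, hπ⟩ := isConjRoot_iff_exists_algEquiv.1 hconj
    exact hκinj τ τ' π.symm.toRingEquiv
      ((by rw [← hπ]; exact (π.symm_apply_apply _).symm) : κ τ = π.symm (κ τ'))
  -- operators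
  have hc1 : c 1 = 0 := (hcA 1).2 A.one_mem
  have hop : ∀ (S : Finset ℕ) (y : P), ∃ y', ∀ τ, c y' τ = (∑ i ∈ S, κ τ ^ i) * c y τ := by
    intro S y
    have hci : ∀ (i : ℕ) τ, c ((σ ^ i) y) τ = κ τ ^ i * c y τ := by
      intro i τ
      induction i with
      | zero => simp
      | succ i ih => rw [pow_apply_succ, hcσ, ih, pow_succ]; ring
    induction S using Finset.induction_on with
    | empty => exact ⟨1, fun τ => by simp [hc1]⟩
    | @insert a S ha ih =>
      obtain ⟨y', hy'⟩ := ih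
      refine ⟨(σ ^ a) y * y', fun τ => ?_⟩
      rw [hcmul, Pi.add_apply, hci, hy', Finset.sum_insert ha, add_mul]
  have hoppow : ∀ (S : Finset ℕ) (k : ℕ) (y : P),
      ∃ y', ∀ τ, c y' τ = (∑ i ∈ S, κ τ ^ i) ^ k * c y τ := by
    intro S k
    induction k with
    | zero => intro y; exact ⟨y, fun τ => by simp⟩
    | succ k ih =>
      intro y
      obtain ⟨y', hy'⟩ := hop S y
      obtain ⟨y'', hy''⟩ := ih y'
      exact ⟨y'', fun τ => by rw [hy'', hy', pow_succ]; ring⟩
  have hisolate : ∀ (τ : F ≃+* F) (y : P),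
      ∃ m, c m τ = c y τ ∧ ∀ τ' ≠ τ, c m τ' = 0 := by
    intro τ y
    have : ∀ T : Finset (F ≃+* F), τ ∉ T → ∃ m, c m τ = c y τ ∧ ∀ τ' ∈ T, c m τ' = 0 := by
      intro T
      induction T using Finset.induction_on with
      | empty => exact fun _ => ⟨y, rfl, by simp⟩
      | @insert a T ha ih =>
        intro hτ
        simp only [Finset.mem_insert, not_or] at hτ
        obtain ⟨m, hm, hmT⟩ := ih hτ.2
        obtain ⟨S, hS0, hS1⟩ := hsep τ a hτ.1
        obtain ⟨m', hm'⟩ := hoppow S (Fintype.card F - 1) m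
        refine ⟨m', by rw [hm', FiniteField.pow_card_sub_one_eq_one _ hS1, one_mul, hm],
          fun τ' hτ' => ?_⟩
        rcases Finset.mem_insert.1 hτ' with rfl | h
        · rw [hm', hS0, zero_pow (by have := Fintype.one_lt_card (α := F); omega), zero_mul]
        · rw [hm', hmT τ' h, mul_zero]
    obtain ⟨m, hm, hmT⟩ := this (Finset.univ.erase τ) (by simp)
    exact ⟨m, hm, fun τ' hne => hmT τ' (Finset.mem_erase.2 ⟨hne, Finset.mem_univ _⟩)⟩
  -- monomial elements
  let Mon : Set P := {y | ∃ τ, ∀ τ' ≠ τ, c y τ' = 0}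
  have hgenMon : Subgroup.closure Mon = ⊤ := by
    refine eq_top_iff.2 fun y _ => ?_
    have : ∀ T : Finset (F ≃+* F), ∃ w ∈ Subgroup.closure Mon, ∀ τ, c w τ = if τ ∈ T then c y τ else 0 := by
      intro T
      induction T using Finset.induction_on with
      | empty => exact ⟨1, one_mem _, fun τ => by simp [hc1]⟩
      | @insert a T ha ih =>
        obtain ⟨w, hw, hwc⟩ := ih
        obtain ⟨m, hm, hm'⟩ := hisolate a y
        refine ⟨m * w, mul_mem (Subgroup.subset_closure ⟨a, hm'⟩) hw, fun τ => ?_⟩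
        rw [hcmul, Pi.add_apply, hwc]
        by_cases hτ : τ = a
        · subst hτ
          simp [ha, hm]
        · simp [hτ, hm' τ hτ]
    obtain ⟨w, hw, hwc⟩ := this Finset.univ
    have h1 : y * w⁻¹ ∈ A := by
      rw [← hcA]
      have h2 := hcmul (y * w⁻¹) w
      rw [inv_mul_cancel_right] at h2
      have h3 : c w = c y := funext fun τ => by simpa using hwc τ
      rw [h3] at h2
      exact right_eq_add.1 h2
    have h4 : y * w⁻¹ ∈ Subgroup.closure Mon :=
      Subgroup.subset_closure ⟨RingEquiv.refl F, fun τ _ => congrFun ((hcA _).2 h1) τ⟩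
    simpa using mul_mem h4 hw
  -- squares and commutators lie in `A`
  have hsqA : ∀ y, y * y ∈ A := fun y => (hcA _).1 (funext fun τ => by
    rw [hcmul, Pi.add_apply, htwo]; rfl)
  have hcomA : ∀ y p, y⁻¹ * p⁻¹ * y * p ∈ A := fun y p => (hcA _).1 (funext fun τ => by
    have hinv : ∀ z, c z⁻¹ τ = c z τ := fun z => by
      have := congrFun (hcmul z⁻¹ z) τ
      rw [inv_mul_cancel, hc1] at this
      rw [← add_zero (c z⁻¹ τ), ← htwo (c z τ), ← add_assoc,
        show c z⁻¹ τ + c z τ = 0 from this.symm, zero_add]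
    rw [hcmul, hcmul, hcmul]
    simp only [Pi.add_apply, hinv, Pi.zero_apply]
    rw [add_assoc (c y τ + c p τ), htwo])
  let q : P → P := fun y => y * y * (y * y)
  have hqI : ∀ y, q y * q y = 1 := fun y => by
    simp only [q]; simp [hA4 _ (hsqA y)]
  have hDq : ∀ y, Dop y (ε (q y)) = 0 := fun y => by
    simp only [q]
    rw [hDop y _ (hsqA y), show del y (y * y) = 1 by simp only [del]; group, ← hpre0, hεpre]
  -- monomial elements outside `A` are moved by `σ`
  have hnoid : ∀ y, (∀ τ' ≠ RingEquiv.refl F, c y τ' = 0) → y ∈ A := by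
    intro y hy
    by_contra hyA
    have hb : y⁻¹ * σ y ∈ A := (hcA _).1 (funext fun τ => by
      have h := congrFun (hcmul y (y⁻¹ * σ y)) τ
      rw [mul_inv_cancel_left, Pi.add_apply, hcσ] at h
      have h' : c y τ + 0 = c y τ + c (y⁻¹ * σ y) τ := by
        rw [add_zero, ← h]
        by_cases hτ : τ = RingEquiv.refl F
        · subst hτ; simp [κ, hl0]
        · rw [hy τ hτ, mul_zero]
      exact (add_left_cancel h').symm)
    set b := y⁻¹ * σ y with hbdef
    let f : A → A := fun a => ⟨σ a.1 * a.1⁻¹, A.mul_mem (hA.inv _ a.2) (A.inv_mem a.2)⟩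
    have hf : Function.Injective f := by
      intro a a' h
      have h' : σ a.1 * a.1⁻¹ = σ a'.1 * a'.1⁻¹ := congrArg Subtype.val h
      have h2 : σ (a'.1⁻¹ * a.1) = a'.1⁻¹ * a.1 := by
        rw [map_mul, map_inv]
        have e1 : σ a.1 = σ a'.1 * (a'.1⁻¹ * a.1) := by
          rw [← mul_assoc, ← h', inv_mul_cancel_right]
        rw [e1, inv_mul_cancel_left]
      exact Subtype.ext (inv_mul_eq_one.1 (fixed_eq_one hd h2)).symm
    obtain ⟨⟨a, ha⟩, hab⟩ := Finite.injective_iff_surjective.1 hf ⟨b⁻¹, A.inv_mem hb⟩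
    have hab' : σ a * a⁻¹ = b⁻¹ := congrArg Subtype.val hab
    have hfix : σ (y * a) = y * a := by
      rw [map_mul, show σ y = y * b by rw [hbdef, mul_inv_cancel_left],
        show σ a = b⁻¹ * a by rw [← hab', inv_mul_cancel_right]]
      group
    have h1 := fixed_eq_one hd hfix
    exact hyA (by rw [eq_inv_of_mul_eq_one_left h1]; exact A.inv_mem ha)
  -- the commutator pairing
  let B : P → P → P := fun y y' => (y'⁻¹ * y⁻¹ * y' * y) * (y'⁻¹ * y⁻¹ * y' * y)
  have hBI : ∀ y y', B y y' * B y y' = 1 := fun y y' => hA4 _ (hcomA y' y)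
  have hq : ∀ y y', q (y * y') = q y * q y' * B y y' := by
    intro y y'
    set d := y'⁻¹ * y⁻¹ * y' * y with hddef
    have hdA : d ∈ A := hcomA y' y
    have h1 : y * y' * (y * y') = y * y * (y' * y') * (y'⁻¹ * d * y') := by rw [hddef]; group
    have hconj : y'⁻¹ * d * y' * (y'⁻¹ * d * y') = d * d := by
      calc y'⁻¹ * d * y' * (y'⁻¹ * d * y') = y'⁻¹ * (d * d * y') := by group
        _ = d * d := by rw [invol_central hd (hA4 d hdA) y', inv_mul_cancel_left]
    have hd' : y'⁻¹ * d * y' ∈ A := hA.conj y' d hdA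
    have hcA' := hA.comm
    have sqm : ∀ a ∈ A, ∀ b ∈ A, a * b * (a * b) = a * a * (b * b) := fun a ha b hb => by
      calc a * b * (a * b) = a * (b * a) * b := by group
        _ = a * (a * b) * b := by rw [hcA' b hb a ha]
        _ = _ := by group
    simp only [q]
    rw [h1, sqm _ (A.mul_mem (hsqA y) (hsqA y')) _ hd', sqm _ (hsqA y) _ (hsqA y'), hconj]
  have hDB : ∀ y y', ε (B y y') + Dop y' (ε (B y y')) = Dop y (ε (q y')) := by
    intro y y'
    set d := y'⁻¹ * y⁻¹ * y' * y with hddef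
    have hdA : d ∈ A := hcomA y' y
    have h1 : del y (y' * y') = d * d * del y' d := by
      have h2 : d * d * del y' d = d * (y'⁻¹ * d * y') := by simp only [del]; group
      rw [h2, hA.comm d hdA _ (hA.conj y' d hdA)]
      simp only [del, hddef]; group
    show ε (d * d) + _ = _
    rw [hDop y' d hdA, ← hεmul _ _ (hA4 d hdA) (hdelI y' d hdA), ← h1, ← hDop y _ (hsqA y')]
  have hBl : ∀ y₁ y₂ y', B (y₁ * y₂) y' = B y₁ y' * B y₂ y' := by
    intro y₁ y₂ y'
    set d₁ := y'⁻¹ * y₁⁻¹ * y' * y₁ with h1def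
    set d₂ := y'⁻¹ * y₂⁻¹ * y' * y₂ with h2def
    have e : y'⁻¹ * (y₁ * y₂)⁻¹ * y' * (y₁ * y₂) = d₂ * (y₂⁻¹ * d₁ * y₂) := by
      rw [h1def, h2def]; group
    have hconj : y₂⁻¹ * d₁ * y₂ * (y₂⁻¹ * d₁ * y₂) = d₁ * d₁ := by
      calc y₂⁻¹ * d₁ * y₂ * (y₂⁻¹ * d₁ * y₂) = y₂⁻¹ * (d₁ * d₁ * y₂) := by group
        _ = d₁ * d₁ := by rw [invol_central hd (hA4 d₁ (hcomA y' y₁)) y₂, inv_mul_cancel_left]
    have hmem : y₂⁻¹ * d₁ * y₂ ∈ A := hA.conj y₂ d₁ (hcomA y' y₁)
    show (y'⁻¹ * (y₁ * y₂)⁻¹ * y' * (y₁ * y₂)) * (y'⁻¹ * (y₁ * y₂)⁻¹ * y' * (y₁ * y₂)) =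
      d₁ * d₁ * (d₂ * d₂)
    rw [e]
    calc d₂ * (y₂⁻¹ * d₁ * y₂) * (d₂ * (y₂⁻¹ * d₁ * y₂))
        = d₂ * ((y₂⁻¹ * d₁ * y₂) * d₂) * (y₂⁻¹ * d₁ * y₂) := by group
      _ = d₂ * (d₂ * (y₂⁻¹ * d₁ * y₂)) * (y₂⁻¹ * d₁ * y₂) := by
        rw [hA.comm _ hmem d₂ (hcomA y' y₂)]
      _ = d₂ * d₂ * (y₂⁻¹ * d₁ * y₂ * (y₂⁻¹ * d₁ * y₂)) := by group
      _ = _ := by rw [hconj, ← invol_central hd (hA4 d₁ (hcomA y' y₁))]
  have hBsymm : ∀ y y', B y y' = B y' y := fun y y' => by
    have h1 := inv_eq_of_mul_eq_one_right (hBI y y')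
    rw [← h1]
    simp only [B]
    group
  -- monomial elements square into the involutions
  have hDmon : ∀ y τ, (∀ τ' ≠ τ, c y τ' = 0) → ∀ x, Dop y x = c y τ * τ x := by
    intro y τ hy x
    rw [hc, Finset.sum_eq_single τ]
    · intro τ' _ hne; rw [hy τ' hne, zero_mul]
    · simp
  have hqMon : ∀ y ∈ Mon, q y = 1 := by
    rintro y ⟨τ, hy⟩
    by_cases hyA : y ∈ A
    · simp only [q]; rw [hA4 y hyA]
    have h := hDq y
    rw [hDmon y τ hy, mul_eq_zero] at h
    have hcne : c y τ ≠ 0 := fun h0 => hyA ((hcA y).1 (funext fun τ' => by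
      by_cases hτ : τ' = τ
      · rw [hτ]; exact h0
      · exact hy τ' hτ))
    have h0 : ε (q y) = 0 := by simpa using h.resolve_left hcne
    rw [← hε _ (hqI y), h0, hpre0]
  -- the pairing vanishes
  have hBMon : ∀ y ∈ Mon, ∀ y' ∈ Mon, B y y' = 1 := by
    rintro y ⟨τ, hy⟩ y' ⟨τ', hy'⟩
    have hsame : ∀ y' : P, (∀ τ'' ≠ τ, c y' τ'' = 0) → B y y' = 1 := by
      intro y' hy'
      have h1 : y * y' ∈ Mon := ⟨τ, fun τ'' h => by
        rw [hcmul, Pi.add_apply, hy τ'' h, hy' τ'' h, add_zero]⟩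
      have h := hq y y'
      rw [hqMon _ h1, hqMon y ⟨τ, hy⟩, hqMon y' ⟨τ, hy'⟩, one_mul, one_mul] at h
      exact h.symm
    by_cases hττ : τ' = τ
    · subst hττ; exact hsame y' hy'
    by_contra hne
    -- the zero elements
    have hyA : y ∉ A := fun h => hne (by
      rw [hBsymm]
      have h1 : B y' y = 1 := by
        simp only [B]
        rw [← del_invol hd (hA4 y h) (y := y'), del_mul_right hd hA h h]
        simp only [del]; group
      exact h1)
    have hτ1 : τ ≠ RingEquiv.refl F := fun h => hyA (hnoid y (h ▸ hy))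
    have hy'A : y' ∉ A := fun h => hne (by
      simp only [B]
      rw [← del_invol hd (hA4 y' h) (y := y), del_mul_right hd hA h h]
      simp only [del]; group)
    have hτ'1 : τ' ≠ RingEquiv.refl F := fun h => hy'A (hnoid y' (h ▸ hy'))
    have hcy : c y τ ≠ 0 := fun h0 => hyA ((hcA y).1 (funext fun τ'' => by
      by_cases h : τ'' = τ
      · rw [h]; exact h0
      · exact hy τ'' h))
    have hcy' : c y' τ' ≠ 0 := fun h0 => hy'A ((hcA y').1 (funext fun τ'' => by
      by_cases h : τ'' = τ'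
      · rw [h]; exact h0
      · exact hy' τ'' h))
    -- every value is a coefficient
    let R : Subring F :=
      { carrier := {r | ∀ z, (∀ τ'' ≠ τ', c z τ'' = 0) →
          ∃ z', (∀ τ'' ≠ τ', c z' τ'' = 0) ∧ c z' τ' = r * c z τ'}
        one_mem' := fun z hz => ⟨z, hz, (one_mul _).symm⟩
        zero_mem' := fun z _ => ⟨1, fun τ'' _ => congrFun hc1 τ'', by rw [hc1, zero_mul]; rfl⟩
        mul_mem' := fun {r s} hr hs z hz => by
          obtain ⟨z', hz', e'⟩ := hs z hz
          obtain ⟨z'', hz'', e''⟩ := hr z' hz'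
          exact ⟨z'', hz'', by rw [e'', e', mul_assoc]⟩
        add_mem' := fun {r s} hr hs z hz => by
          obtain ⟨z', hz', e'⟩ := hr z hz
          obtain ⟨z'', hz'', e''⟩ := hs z hz
          exact ⟨z' * z'', fun τ'' h => by rw [hcmul, Pi.add_apply, hz' τ'' h, hz'' τ'' h, add_zero],
            by rw [hcmul, Pi.add_apply, e', e'', add_mul]⟩
        neg_mem' := fun {r} hr => by
          rw [neg_eq_iff_add_eq_zero.2 (htwo r)]
          exact hr }
    have hκR : κ τ' ∈ R := fun z hz => ⟨σ z, fun τ'' h => by rw [hcσ, hz τ'' h, mul_zero], hcσ z τ'⟩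
    have hRtop : R = ⊤ := by
      refine subring_eq_top hτ'1 fun x hx => ?_
      obtain ⟨i, rfl⟩ := hgen x hx
      rw [map_pow, ← div_pow]
      exact R.pow_mem hκR i
    have hall : ∀ x : F, ∃ z, (∀ τ'' ≠ τ', c z τ'' = 0) ∧ c z τ' = x := fun x => by
      obtain ⟨z, hz, hze⟩ := (hRtop ▸ Subring.mem_top (x / c y' τ') : x / c y' τ' ∈ R) y' hy'
      exact ⟨z, hz, by rw [hze, div_mul_cancel₀ _ hcy']⟩
    choose mz hmz hmzc using hall
    have hwd : ∀ z z', (∀ τ'' ≠ τ', c z τ'' = 0) → (∀ τ'' ≠ τ', c z' τ'' = 0) →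
        c z τ' = c z' τ' → B y z = B y z' := by
      intro z z' hz hz' h
      have h1 : z * z'⁻¹ ∈ A := by
        rw [← hcA]
        have h2 := hcmul (z * z'⁻¹) z'
        rw [inv_mul_cancel_right] at h2
        have h3 : c z = c z' := funext fun τ'' => by
          by_cases h' : τ'' = τ'
          · rw [h', h]
          · rw [hz τ'' h', hz' τ'' h']
        rw [h3] at h2
        exact right_eq_add.1 h2
      have h4 : B (z * z'⁻¹) y = 1 := by
        have h5 : B y (z * z'⁻¹) = 1 := by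
          simp only [B]
          rw [← del_invol hd (hA4 _ h1) (y := y), del_mul_right hd hA h1 h1]
          simp only [del]; group
        rw [hBsymm, h5]
      rw [hBsymm y, hBsymm y, ← inv_mul_cancel_right z z', hBl, h4, one_mul]
    let g : F →+ F := AddMonoidHom.mk' (fun x => ε (B y (mz x))) (fun x x' => by
      have h := hwd (mz (x + x')) (mz x * mz x') (hmz _) (fun τ'' h => by
          rw [hcmul, Pi.add_apply, hmz x τ'' h, hmz x' τ'' h, add_zero])
          (by rw [hmzc, hcmul, Pi.add_apply, hmzc, hmzc])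
      rw [h, hBsymm y (mz x * mz x'), hBl, hεmul _ _ (hBI _ _) (hBI _ _), hBsymm (mz x), hBsymm (mz x')])
    have hg1 : g (c y' τ') ≠ 0 := by
      show ε (B y (mz _)) ≠ 0
      rw [hwd _ y' (hmz _) hy' (hmzc _)]
      intro h
      exact hne (by rw [← hε _ (hBI y y'), h, hpre0])
    -- every value is fixed by both operators
    let x₀ := g (c y' τ')
    have hfix : ∀ x, c y τ * τ (g x) = g x ∧ x * τ' (g x) = g x := by
      intro x
      have hz := hmz x
      have e1 := hDB y (mz x)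
      have e2 := hDB (mz x) y
      rw [hqMon _ ⟨τ', hz⟩, show ε 1 = (0 : F) by rw [← hpre0, hεpre], map_zero,
        hDmon _ τ' hz, hmzc] at e1
      rw [hqMon y ⟨τ, hy⟩, show ε 1 = (0 : F) by rw [← hpre0, hεpre], map_zero,
        hDmon y τ hy, ← hBsymm y] at e2
      exact ⟨(add_left_cancel (e2.trans (htwo _).symm)),
        (add_left_cancel (e1.trans (htwo _).symm))⟩
    let E : Subring F := RingHom.eqLocus (τ : F →+* F) (RingHom.id F)
    have hE : E ≠ ⊤ := fun h => hτ1 (RingEquiv.ext fun x => (h ▸ Subring.mem_top x : x ∈ E))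
    have hE2 := subring_card_sq_le hE
    -- the complement of the kernel injects into the fixed field
    let K : AddSubgroup F := g.ker
    have hcompl : Nat.card F - Nat.card K ≤ Nat.card E := by
      have h1 : Nat.card {x : F // x ∉ K} = Nat.card F - Nat.card K := by
        have h := Nat.card_congr (Equiv.sumCompl (fun x : F => x ∈ K))
        rw [Nat.card_sum] at h
        have : Nat.card {x : F // x ∈ K} = Nat.card K := rfl
        omega
      rw [← h1]
      refine Nat.card_le_card_of_injective (fun x => (⟨g x.1 / x₀, ?_⟩ : E)) ?_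
      · show τ (g x.1 / x₀) = g x.1 / x₀
        rw [map_div₀]
        have a1 := (hfix x.1).1
        have a2 := (hfix (c y' τ')).1
        rw [div_eq_div_iff (by simpa [x₀] using hg1) hg1]
        refine mul_left_cancel₀ hcy ?_
        linear_combination x₀ * a1 - g x.1 * a2
      · rintro ⟨x, hx⟩ ⟨x', hx'⟩ h
        have h' : g x / x₀ = g x' / x₀ := congrArg Subtype.val h
        rw [div_left_inj' hg1] at h'
        have a1 := (hfix x).2
        have a2 := (hfix x').2
        have hgx : g x ≠ 0 := hx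
        rw [← h'] at a2
        exact Subtype.ext (mul_right_cancel₀ (by simpa using hgx) (a1.trans a2.symm))
    have hKhalf : 2 * Nat.card K ≤ Nat.card F := by
      rw [← K.card_mul_index, mul_comm]
      refine Nat.mul_le_mul_left _ ?_
      have h0 : K.index ≠ 0 := AddSubgroup.index_ne_zero_of_finite
      have h1 : K.index ≠ 1 := fun h => hg1 (show c y' τ' ∈ K by
        rw [AddSubgroup.index_eq_one.1 h]; exact AddSubgroup.mem_top _)
      omega
    -- there are three automorphisms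
    obtain ⟨n, hn, haut⟩ := FieldMaps.card_aut (F := F) 2
    have h3 : 3 ≤ Fintype.card (F ≃+* F) :=
      Fintype.two_lt_card_iff.2 ⟨RingEquiv.refl F, τ, τ', hτ1.symm, hτ'1.symm, fun h => hττ h.symm⟩
    have h8 : 8 ≤ Nat.card F := by
      rw [Nat.card_eq_fintype_card, hn]
      calc 8 = 2 ^ 3 := rfl
        _ ≤ _ := Nat.pow_le_pow_right (by norm_num) (by omega)
    have hlow : Nat.card F ≤ 2 * Nat.card E := by omega
    nlinarith [Nat.mul_le_mul hlow hlow]
  -- hence all fourth powers are trivial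
  have hBall : ∀ y y', B y y' = 1 := by
    intro y y'
    have h1 : ∀ z ∈ Mon, ∀ y, B y z = 1 := by
      intro z hz y
      refine Subgroup.closure_induction (p := fun y _ => B y z = 1) (fun w hw => hBMon w hw z hz)
        (by simp [B]) (fun a b _ _ ha hb => by rw [hBl, ha, hb, one_mul]) (fun a _ ha => ?_)
        (hgenMon ▸ Subgroup.mem_top y)
      have := hBl a⁻¹ a z
      rw [inv_mul_cancel, show B 1 z = 1 by simp [B], ha, mul_one] at this
      exact this.symm
    rw [hBsymm]
    refine Subgroup.closure_induction (p := fun w _ => B w y = 1)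
      (fun w hw => by rw [hBsymm]; exact h1 w hw y)
      (by simp [B]) (fun a b _ _ ha hb => by rw [hBl, ha, hb, one_mul]) (fun a _ ha => ?_)
      (hgenMon ▸ Subgroup.mem_top y')
    have := hBl a⁻¹ a y
    rw [inv_mul_cancel, show B 1 y = 1 by simp [B], ha, mul_one] at this
    exact this.symm
  have hq1 : ∀ y, q y = 1 := by
    intro y
    refine Subgroup.closure_induction (p := fun y _ => q y = 1) hqMon
      (by simp [q]) (fun a b _ _ ha hb => by rw [hq, ha, hb, hBall, one_mul, one_mul])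
      (fun a _ ha => ?_) (hgenMon ▸ Subgroup.mem_top y)
    simp only [q] at ha ⊢
    rw [← mul_inv_rev a a, ← mul_inv_rev, ha, inv_one]
  have hsqc : ∀ x : P, x * x ∈ Subgroup.center P := fun x => mem_A_of_sq hd hcZ (hq1 x)
  have hall : ∀ x : P, x ∈ A := fun x => hMA x ⟨Subgroup.mem_top _, hsqc x, fun p => by
    have e : x⁻¹ * p⁻¹ * x * p = x⁻¹ * x⁻¹ * (x * p⁻¹ * (x * p⁻¹)) * (p * p) := by group
    rw [e]
    exact mul_mem (mul_mem (by rw [← mul_inv_rev]; exact inv_mem (hsqc x)) (hsqc _)) (hsqc p)⟩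
  obtain ⟨x, y, hxy⟩ := hd.noncomm
  exact hxy (hA.comm x (hall x) y (hall y))

end Cfsg.Agent.Suzuki2
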