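import Cfsg.Agent.Suzuki2.Elementary
import Cfsg.Agent.Suzuki2.Extension
import Cfsg.Agent.FieldMaps.Additive

/-!
# Suzuki 2-groups of type A
-/

set_option autoImplicit false
set_option linter.unusedSectionVars false

namespace Cfsg.Agent.Suzuki2

section Matrices

variable {F : Type*} [Field F] (φ : F →+* F)

/-- The element `(x, y)` of the group of type A. -/
def typeAMat (x y : F) : GL (Fin 3) F where
  val := !![1, 0, 0; x, 1, 0; y, φ x, 1]
  inv := !![1, 0, 0; -x, 1, 0; φ x * x - y, φ (-x), 1]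
  val_inv := by
    ext i j
    fin_cases i <;> fin_cases j <;> simp [Matrix.mul_apply, Fin.sum_univ_three] <;> ring
  inv_val := by
    ext i j
    fin_cases i <;> fin_cases j <;> simp [Matrix.mul_apply, Fin.sum_univ_three] <;> ring

theorem typeAMat_val (x y : F) :
    (typeAMat φ x y : Matrix (Fin 3) (Fin 3) F) = !![1, 0, 0; x, 1, 0; y, φ x, 1] := rfl

theorem typeAMat_mul (x y x' y' : F) :
    typeAMat φ x y * typeAMat φ x' y' = typeAMat φ (x + x') (y + y' + φ x * x') := by
  apply Units.ext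
  rw [Units.val_mul, typeAMat_val, typeAMat_val, typeAMat_val]
  ext i j
  fin_cases i <;> fin_cases j <;> simp [Matrix.mul_apply, Fin.sum_univ_three, map_add] <;> ring

theorem typeAMat_zero : typeAMat φ 0 0 = 1 := by
  apply Units.ext
  rw [typeAMat_val, Units.val_one]
  ext i j
  fin_cases i <;> fin_cases j <;> simp

theorem typeAMat_mem (x y : F) : typeAMat φ x y ∈ Cfsg.suzukiTypeA F φ :=
  Subgroup.subset_closure ⟨x, y, rfl⟩

theorem mem_suzukiTypeA {g : GL (Fin 3) F} :
    g ∈ Cfsg.suzukiTypeA F φ ↔ ∃ x y : F, g = typeAMat φ x y := by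
  constructor
  · intro hg
    refine Subgroup.closure_induction (p := fun g _ => ∃ x y : F, g = typeAMat φ x y) ?_ ?_ ?_ ?_ hg
    · rintro g ⟨x, y, h⟩
      exact ⟨x, y, Units.ext h⟩
    · exact ⟨0, 0, (typeAMat_zero φ).symm⟩
    · rintro _ _ _ _ ⟨x, y, rfl⟩ ⟨x', y', rfl⟩
      exact ⟨_, _, typeAMat_mul φ x y x' y'⟩
    · rintro _ _ ⟨x, y, rfl⟩
      refine ⟨-x, φ x * x - y, inv_eq_of_mul_eq_one_right ?_⟩
      rw [typeAMat_mul, ← typeAMat_zero φ]
      congr 1 <;> ring
  · rintro ⟨x, y, rfl⟩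
    exact typeAMat_mem φ x y

/-- The first coordinate of a type-A element. -/
def typeAFst : Cfsg.suzukiTypeA F φ →* Multiplicative F where
  toFun g := Multiplicative.ofAdd ((g.1 : Matrix (Fin 3) (Fin 3) F) 1 0)
  map_one' := by simp
  map_mul' := fun g h => by
    obtain ⟨x, y, hg⟩ := (mem_suzukiTypeA φ).1 g.2
    obtain ⟨x', y', hh⟩ := (mem_suzukiTypeA φ).1 h.2
    rw [Subgroup.coe_mul, hg, hh, typeAMat_mul]
    simp [typeAMat_val, ← ofAdd_add]

/-- The central coordinate. -/
def typeAIncl : Multiplicative F →* Cfsg.suzukiTypeA F φ where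
  toFun y := ⟨typeAMat φ 0 (Multiplicative.toAdd y), typeAMat_mem φ _ _⟩
  map_one' := Subtype.ext (typeAMat_zero φ)
  map_mul' := fun y y' => Subtype.ext (by
    rw [Subgroup.coe_mul, typeAMat_mul]; simp)

theorem typeAIncl_injective : Function.Injective (typeAIncl φ) := by
  intro y y' h
  have := congrArg (fun g : Cfsg.suzukiTypeA F φ => (g.1 : Matrix (Fin 3) (Fin 3) F) 2 0) h
  simpa [typeAIncl, typeAMat_val] using this

theorem typeAFst_surjective : Function.Surjective (typeAFst φ) := fun v =>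
  ⟨⟨typeAMat φ (Multiplicative.toAdd v) 0, typeAMat_mem φ _ _⟩, by simp [typeAFst, typeAMat_val]⟩

theorem typeA_range_eq_ker : (typeAIncl φ).range = (typeAFst φ).ker := by
  ext ⟨g, hg⟩
  obtain ⟨x, y, rfl⟩ := (mem_suzukiTypeA φ).1 hg
  rw [MonoidHom.mem_ker]
  constructor
  · rintro ⟨z, hz⟩
    rw [← hz]; simp [typeAFst, typeAIncl, typeAMat_val]
  · intro h
    have hx : x = 0 := by simpa [typeAFst, typeAMat_val] using h
    exact ⟨Multiplicative.ofAdd y, Subtype.ext (by simp [typeAIncl, hx])⟩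

theorem typeA_central (z : Multiplicative F) (g : Cfsg.suzukiTypeA F φ) :
    typeAIncl φ z * g = g * typeAIncl φ z := by
  obtain ⟨x, y, hg⟩ := (mem_suzukiTypeA φ).1 g.2
  refine Subtype.ext ?_
  simp only [Subgroup.coe_mul, hg, typeAIncl, MonoidHom.coe_mk, OneHom.coe_mk, typeAMat_mul,
    map_zero]
  congr 1 <;> ring

theorem typeA_sq [CharP F 2] (g : Cfsg.suzukiTypeA F φ) :
    g * g = typeAIncl φ (Multiplicative.ofAdd
      (φ (Multiplicative.toAdd (typeAFst φ g)) * Multiplicative.toAdd (typeAFst φ g))) := by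
  obtain ⟨x, y, hg⟩ := (mem_suzukiTypeA φ).1 g.2
  refine Subtype.ext ?_
  simp [typeAFst, typeAIncl, hg, typeAMat_mul, typeAMat_val, CharTwo.add_self_eq_zero]

end Matrices

/-- A transitive automorphism of an elementary abelian group of order `|F|` is a multiplication of `F`. -/
theorem exists_model {E : Type*} [AddCommGroup E] [Finite E] {σ : AddMonoid.End E}
    (htrans : ∀ u v : E, u ≠ 0 → v ≠ 0 → ∃ i : ℕ, (σ ^ i) u = v)
    (hσ0 : ∀ x, σ x = 0 → x = 0) (F : Type) [Field F] [Fintype F]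
    (hcard : Nat.card E = Fintype.card F) :
    ∃ (e : E ≃+ F) (l : F), (∀ x, e (σ x) = l * e x) ∧ ∀ x : F, x ≠ 0 → ∃ i : ℕ, l ^ i = x := by
  haveI : Nontrivial E := Finite.one_lt_card_iff_nontrivial.1 (hcard ▸ Fintype.one_lt_card)
  obtain ⟨F', _, _, e, l, he, hl⟩ := exists_field htrans hσ0 (exists_ne 0)
  let r : F' ≃+* F := FiniteField.ringEquivOfCardEq (by
    rw [← hcard, Nat.card_congr e.toEquiv, Nat.card_eq_fintype_card])
  refine ⟨e.trans r.toAddEquiv, r l, fun x => ?_, fun x hx => ?_⟩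
  · show r (e (σ x)) = r l * r (e x)
    rw [he, map_mul]
  · obtain ⟨i, hi⟩ := hl (r.symm x) (by simpa using hx)
    exact ⟨i, by rw [← map_pow, hi, RingEquiv.apply_symm_apply]⟩

/-- An automorphism `φ` with `t ↦ t φ(t)` injective has odd order. -/
theorem odd_order_of_injective {F : Type*} [Field F] [Fintype F] [CharP F 2] (φ : F ≃+* F)
    (hinj : ∀ u : F, u * φ u = 1 → u = 1) : Odd (orderOf φ) := by
  classical
  haveI : Finite (F ≃+* F) := Finite.of_injective _ (DFunLike.coe_injective (F := F ≃+* F))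
  by_contra hodd
  rw [Nat.not_odd_iff_even] at hodd
  obtain ⟨s, hs⟩ := hodd
  have hpos : 0 < orderOf φ := orderOf_pos φ
  let W : F → F := fun x => ∑ i ∈ Finset.range s, (φ ^ (2 * i)) x
  have happ : ∀ (σ τ : F ≃+* F) (x : F), (σ * τ) x = σ (τ x) := fun _ _ _ => rfl
  have hfix : ∀ x, φ (φ (W x)) = W x := by
    intro x
    simp only [W, map_sum]
    have h2 : ∀ i, φ (φ ((φ ^ (2 * i)) x)) = (φ ^ (2 * (i + 1))) x := fun i => by
      rw [show 2 * (i + 1) = 2 * i + 1 + 1 by ring, pow_succ', pow_succ', happ, happ]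
    simp only [h2]
    have h3 := Finset.sum_range_succ' (fun i => (φ ^ (2 * i)) x) s
    rw [Finset.sum_range_succ] at h3
    simp only [mul_zero] at h3
    rw [show 2 * s = orderOf φ by omega, pow_orderOf_eq_one, pow_zero] at h3
    exact (add_right_cancel h3).symm
  have hne : ∃ x, φ (W x) ≠ W x := by
    by_contra hall
    simp only [not_exists, not_not] at hall
    let c : (F ≃+* F) → F := fun σ => if σ ∈ (Finset.range (orderOf φ)).image (φ ^ ·) then 1 else 0
    have hc : ∀ x, ∑ σ, c σ * σ x = 0 := by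
      intro x
      simp only [c, ite_mul, one_mul, zero_mul]
      rw [Finset.sum_ite_mem, Finset.univ_inter, Finset.sum_image (fun i hi j hj h =>
        pow_injOn_Iio_orderOf (by simpa using hi) (by simpa using hj) h)]
      have hsplit : ∀ k, ∑ i ∈ Finset.range (k + k), (φ ^ i) x =
          (∑ i ∈ Finset.range k, (φ ^ (2 * i)) x) + ∑ i ∈ Finset.range k, φ ((φ ^ (2 * i)) x) := by
        intro k
        induction k with
        | zero => simp
        | succ k ih =>
          rw [show k + 1 + (k + 1) = k + k + 1 + 1 by ring, Finset.sum_range_succ,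
            Finset.sum_range_succ, ih, Finset.sum_range_succ, Finset.sum_range_succ,
            show k + k + 1 = 2 * k + 1 by ring, show k + k = 2 * k by ring, pow_succ', happ]
          ring
      rw [hs, hsplit, ← map_sum]
      show W x + φ (W x) = 0
      rw [hall, CharTwo.add_self_eq_zero]
    have h := congrFun (FieldMaps.sum_aut_eq_zero hc) 1
    simp only [c] at h
    rw [if_pos (Finset.mem_image.2 ⟨0, Finset.mem_range.2 hpos, pow_zero φ⟩)] at h
    exact one_ne_zero h
  obtain ⟨x, hx⟩ := hne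
  set w := W x
  have hw : w ≠ 0 := fun h => hx (by rw [h, map_zero])
  have hφw : φ w ≠ 0 := by simpa using hw
  have hu : w / φ w * φ (w / φ w) = 1 := by
    rw [map_div₀, show φ (φ w) = w from hfix x]
    field_simp
  exact hx ((div_eq_one_iff_eq hφw).1 (hinj _ hu)).symm

variable {P : Type*} [Group P] {σ : MulAut P}

theorem mem_center_iff_sq (hd : Data σ) {x : P} : x ∈ Subgroup.center P ↔ x * x = 1 :=
  ⟨center_sq hd x, fun h => Subgroup.mem_center_iff.2 fun y => (invol_central hd h y).symm⟩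

/-- The structure of a Suzuki 2-group of order `|Z|²`. -/
theorem exists_typeA (hd : Data σ) (hcard : Nat.card P = Nat.card (Subgroup.center P) ^ 2) :
    ∃ (F : Type) (_ : Field F) (_ : Fintype F) (φ : F ≃+* F),
      Fintype.card F = Nat.card (Subgroup.center P) ∧ φ ≠ RingEquiv.refl F ∧ Odd (orderOf φ) ∧
      Nonempty (P ≃* Cfsg.suzukiTypeA F (φ : F →+* F)) := by
  classical
  haveI := hd.finite
  haveI : Fact (Nat.Prime 2) := ⟨Nat.prime_two⟩
  set Z := Subgroup.center P with hZ
  have hinvσ : ∀ x : P, x ∈ Z → ∀ i : ℕ, (σ ^ i) x ∈ Z := fun x hx i => by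
    rw [mem_center_iff_sq hd] at hx ⊢; rw [← map_mul, hx, map_one]
  set M := stepSubgroup (center_good hd) (⊤ : Subgroup P) with hM
  have hMσ : ∀ y ∈ M, σ y ∈ M := fun y hy =>
    stepSubgroup_inv hd (center_good hd) (fun x _ => Subgroup.mem_top _) hy
  obtain ⟨y₀, -, hy₀Z, hy₀2, hy₀c⟩ := exists_step hd (center_good hd) ⊤ inferInstance (by
    obtain ⟨a, b, hab⟩ := hd.noncomm
    exact ⟨a, Subgroup.mem_top a, fun h => hab (Subgroup.mem_center_iff.1 h b).symm⟩)
  have hy₀M : y₀ ∈ M := ⟨Subgroup.mem_top _, hy₀2, hy₀c⟩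
  have honto : ∀ u : Z, ∃ x ∈ M, x * x = u := by
    rintro ⟨u, hu⟩
    by_cases hu1 : u = 1
    · exact ⟨1, M.one_mem, by simp [hu1]⟩
    have h1 : y₀ * y₀ ≠ 1 := fun h => hy₀Z ((mem_center_iff_sq hd).2 h)
    obtain ⟨i, hi⟩ := hd.trans (y₀ * y₀) u h1 ((mem_center_iff_sq hd).1 hy₀2) hu1
      ((mem_center_iff_sq hd).1 hu)
    exact ⟨(σ ^ i) y₀, pow_apply_mem (S := (M : Set P)) hMσ hy₀M i, by rw [← map_mul]; exact hi⟩
  choose rt hrtM hrt using honto
  let comb : Z × Z → P := fun p => rt p.1 * p.2.1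
  have hsqz : ∀ (x : P) (z : Z), x * z.1 * (x * z.1) = x * x := by
    intro x z
    have h1 := center_sq hd z.1 z.2
    calc x * z.1 * (x * z.1) = x * (z.1 * x) * z.1 := by group
      _ = x * (x * z.1) * z.1 := by rw [← Subgroup.mem_center_iff.1 z.2 x]
      _ = x * x * (z.1 * z.1) := by group
      _ = x * x := by rw [h1, mul_one]
  have hcombinj : Function.Injective comb := by
    rintro ⟨u, z⟩ ⟨u', z'⟩ h
    have h1 : rt u * z.1 * (rt u * z.1) = rt u' * z'.1 * (rt u' * z'.1) := by
      rw [show rt u * z.1 = rt u' * z'.1 from h]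
    rw [hsqz, hsqz, hrt, hrt] at h1
    obtain rfl : u = u' := Subtype.ext h1
    exact congrArg (Prod.mk u) (Subtype.ext (mul_left_cancel h))
  have hcomb : Function.Bijective comb :=
    (Nat.bijective_iff_injective_and_card comb).2 ⟨hcombinj, by
      rw [Nat.card_prod, hcard, pow_two]⟩
  have hMtop : ∀ x : P, x ∈ M := fun x => by
    obtain ⟨⟨u, z⟩, rfl⟩ := hcomb.2 x
    exact M.mul_mem (hrtM u) (le_stepSubgroup hd (center_good hd) le_top z.2)
  have hsqmem : ∀ x : P, x * x ∈ Z := fun x => (hMtop x).2.1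
  have hcommmem : ∀ x p : P, x⁻¹ * p⁻¹ * x * p ∈ Z := fun x p => (hMtop x).2.2 p
  have hsqinj : ∀ x y : P, x * x = y * y → x⁻¹ * y ∈ Z := by
    intro x y h
    obtain ⟨⟨u, z⟩, rfl⟩ := hcomb.2 x
    obtain ⟨⟨u', z'⟩, rfl⟩ := hcomb.2 y
    simp only [comb] at h ⊢
    rw [hsqz, hsqz, hrt, hrt] at h
    obtain rfl : u = u' := Subtype.ext h
    rw [mul_inv_rev, mul_assoc, inv_mul_cancel_left]
    exact Z.mul_mem (Z.inv_mem z.2) z'.2
  -- the quotient
  letI : CommGroup (P ⧸ Z) :=
    { (inferInstance : Group (P ⧸ Z)) with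
      mul_comm := fun a b => by
        induction a using QuotientGroup.induction_on with
        | H x =>
          induction b using QuotientGroup.induction_on with
          | H y =>
            rw [← QuotientGroup.mk_mul, ← QuotientGroup.mk_mul, QuotientGroup.eq]
            have := hcommmem y x
            have e : (x * y)⁻¹ * (y * x) = y⁻¹ * x⁻¹ * y * x := by group
            rw [e]; exact this }
  have hmapZ : Z ≤ Z.comap σ.toMonoidHom := fun x hx => by
    simpa using hinvσ x hx 1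
  let s : AddMonoid.End (Additive (P ⧸ Z)) :=
    MonoidHom.toAdditive (QuotientGroup.map Z Z σ.toMonoidHom hmapZ)
  have hspow : ∀ (i : ℕ) (x : P), (s ^ i) (Additive.ofMul (x : P ⧸ Z)) =
      Additive.ofMul (((σ ^ i) x : P) : P ⧸ Z) := by
    intro i
    induction i with
    | zero => intro x; rfl
    | succ i ih =>
      intro x
      rw [pow_succ', pow_apply_succ]
      show s ((s ^ i) _) = _
      rw [ih]; rfl
  let I := invSubgroup hd
  letI : CommGroup I :=
    { (inferInstance : Group I) with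
      mul_comm := fun a b => Subtype.ext (invol_central hd a.2 b) }
  let t : AddMonoid.End (Additive I) :=
    MonoidHom.toAdditive
      ((σ.toMonoidHom.comp I.subtype).codRestrict I fun a => by
        show σ a.1 * σ a.1 = 1
        rw [← map_mul, show a.1 * a.1 = 1 from a.2, map_one])
  have htpow : ∀ (i : ℕ) (a : Additive I),
      ((Additive.toMul ((t ^ i) a) : I) : P) = (σ ^ i) (Additive.toMul a).1 := by
    intro i
    induction i with
    | zero => intro a; rfl
    | succ i ih =>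
      intro a
      rw [pow_apply_succ, ← ih a, pow_succ']
      rfl
  have hext : ∀ {a b : Additive I}, (Additive.toMul a : I).1 = (Additive.toMul b : I).1 → a = b :=
    fun h => Additive.toMul.injective (Subtype.ext h)
  -- the field
  obtain ⟨n, hn⟩ := IsPGroup.iff_card.1 (hd.pgroup.to_subgroup Z)
  have hn0 : n ≠ 0 := by
    intro h
    rw [h, pow_zero, Subgroup.card_eq_one] at hn
    exact hy₀Z ((mem_center_iff_sq hd).2 (Subgroup.mem_bot.1 (hn.le hy₀2)))
  let F := GaloisField 2 n
  letI : Fintype F := Fintype.ofFinite F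
  have hF : Fintype.card F = Nat.card Z := by
    rw [hn, ← Nat.card_eq_fintype_card]; exact GaloisField.card 2 n hn0
  have hI : Nat.card I = Nat.card Z :=
    Nat.card_congr (Equiv.subtypeEquivRight fun x => (mem_center_iff_sq hd).symm)
  obtain ⟨e, l, he, hl⟩ := exists_model (E := Additive (P ⧸ Z)) (σ := s) (by
      intro a b ha hb
      obtain ⟨x, rfl⟩ : ∃ x : P, Additive.ofMul (x : P ⧸ Z) = a :=
        ⟨(Additive.toMul a).out, congrArg Additive.ofMul (QuotientGroup.out_eq' _)⟩
      obtain ⟨y, rfl⟩ : ∃ y : P, Additive.ofMul (y : P ⧸ Z) = b :=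
        ⟨(Additive.toMul b).out, congrArg Additive.ofMul (QuotientGroup.out_eq' _)⟩
      have hx1 : x * x ≠ 1 := fun h => ha (congrArg Additive.ofMul
        ((QuotientGroup.eq_one_iff x).2 ((mem_center_iff_sq hd).2 h)))
      have hy1 : y * y ≠ 1 := fun h => hb (congrArg Additive.ofMul
        ((QuotientGroup.eq_one_iff y).2 ((mem_center_iff_sq hd).2 h)))
      obtain ⟨i, hi⟩ := hd.trans (x * x) (y * y) hx1 ((mem_center_iff_sq hd).1 (hsqmem x)) hy1
        ((mem_center_iff_sq hd).1 (hsqmem y))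
      refine ⟨i, ?_⟩
      rw [hspow]
      exact congrArg Additive.ofMul (QuotientGroup.eq.2 (hsqinj _ _ (by rw [← map_mul]; exact hi))))
    (by
      intro a ha
      obtain ⟨x, rfl⟩ : ∃ x : P, Additive.ofMul (x : P ⧸ Z) = a :=
        ⟨(Additive.toMul a).out, congrArg Additive.ofMul (QuotientGroup.out_eq' _)⟩
      have h1 : σ x ∈ Z := (QuotientGroup.eq_one_iff _).1 (congrArg Additive.toMul ha)
      refine congrArg Additive.ofMul ((QuotientGroup.eq_one_iff x).2 ?_)
      rw [mem_center_iff_sq hd] at h1 ⊢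
      rw [← map_mul] at h1
      exact EmbeddingLike.map_eq_one_iff.1 h1)
    F (by
      have h := Subgroup.card_eq_card_quotient_mul_card_subgroup Z
      rw [hcard, pow_two] at h
      rw [hF]
      exact (Nat.eq_of_mul_eq_mul_right Nat.card_pos h).symm)
  obtain ⟨e', l', he', hl'⟩ := exists_model (E := Additive I) (σ := t) (by
      intro a b ha hb
      obtain ⟨i, hi⟩ := hd.trans _ _ (fun h => ha (hext h)) (Additive.toMul a).2
        (fun h => hb (hext h)) (Additive.toMul b).2
      exact ⟨i, hext ((htpow i a).trans hi)⟩)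
    (by
      intro a ha
      refine hext ?_
      have h : σ (Additive.toMul a).1 = 1 := congrArg (fun a : Additive I => (Additive.toMul a).1) ha
      exact EmbeddingLike.map_eq_one_iff.1 h)
    F (by rw [hF, ← hI]; rfl)
  let π₀ : P → F := fun x => e (Additive.ofMul (x : P ⧸ Z))
  have hπ₀mul : ∀ x y, π₀ (x * y) = π₀ x + π₀ y := fun x y =>
    (map_add e (Additive.ofMul (x : P ⧸ Z)) (Additive.ofMul (y : P ⧸ Z)))
  have hπ₀surj : ∀ v, ∃ x, π₀ x = v := fun v => by
    obtain ⟨x, hx⟩ := QuotientGroup.mk_surjective (Additive.toMul (e.symm v))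
    exact ⟨x, by simp [π₀, hx]⟩
  have hπ₀iff : ∀ x, π₀ x = 0 ↔ x ∈ Z := fun x => by
    simp [π₀, QuotientGroup.eq_one_iff]
  let π : P →* Multiplicative F :=
    { toFun := fun x => Multiplicative.ofAdd (π₀ x)
      map_one' := by rw [(hπ₀iff 1).2 Z.one_mem]; rfl
      map_mul' := fun x y => by rw [hπ₀mul, ofAdd_add] }
  -- squares in coordinates
  let S : P → F := fun x => e' (Additive.ofMul ⟨x * x, (mem_center_iff_sq hd).1 (hsqmem x)⟩)
  have hScong : ∀ x y, π₀ x = π₀ y → S x = S y := by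
    intro x y h
    have h1 : x⁻¹ * y ∈ Z := by
      have : (x : P ⧸ Z) = (y : P ⧸ Z) := e.injective h
      exact QuotientGroup.eq.1 this
    simp only [S]
    congr 2
    refine Subtype.ext ?_
    have h2 := hsqz x ⟨_, h1⟩
    simp only [mul_inv_cancel_left] at h2
    exact h2.symm
  choose lift hlift using hπ₀surj
  let Q0 : F → F := fun v => S (lift v)
  have hSQ : ∀ x, S x = Q0 (π₀ x) := fun x => hScong _ _ (hlift _).symm
  have hQ0 : ∀ v, Q0 v = 0 ↔ v = 0 := by
    intro v
    have h : Q0 v = 0 ↔ lift v ∈ Z := by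
      simp only [Q0, S]
      rw [AddEquiv.map_eq_zero_iff]
      refine Iff.trans ?_ (mem_center_iff_sq hd).symm
      exact ⟨fun h => congrArg (fun a : Additive I => (Additive.toMul a).1) h, fun h => hext h⟩
    rw [h, ← hπ₀iff, hlift]
  have hQ0inj : ∀ v w, Q0 v = Q0 w → v = w := by
    intro v w h
    have h1 : lift v * lift v = lift w * lift w :=
      congrArg (fun a : Additive I => (Additive.toMul a).1) (e'.injective h)
    rw [← hlift v, ← hlift w]
    exact congrArg (fun q => e (Additive.ofMul q)) (QuotientGroup.eq.2 (hsqinj _ _ h1))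
  have hQ0l : ∀ v, Q0 (l * v) = l' * Q0 v := by
    intro v
    have h1 : π₀ (σ (lift v)) = l * v := by
      conv_rhs => rw [← hlift v]
      exact he (Additive.ofMul (lift v : P ⧸ Z))
    rw [← h1, ← hSQ]
    simp only [S, Q0]
    rw [← he']
    exact congrArg e' (hext (by
      show σ (lift v) * σ (lift v) = σ (lift v * lift v)
      rw [map_mul]))
  haveI : CharP F 2 := inferInstance
  set c₀ := Q0 1 with hc₀
  have hc₀0 : c₀ ≠ 0 := fun h => one_ne_zero ((hQ0 1).1 h)
  let Q : F → F := fun v => Q0 v / c₀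
  have hQpow : ∀ i : ℕ, Q (l ^ i) = l' ^ i := by
    intro i
    induction i with
    | zero => simp only [Q, pow_zero]; exact div_self hc₀0
    | succ i ih =>
      simp only [Q] at ih ⊢
      rw [pow_succ', hQ0l, mul_div_assoc, ih, ← pow_succ']
  have hQ00 : Q0 0 = 0 := (hQ0 0).2 rfl
  have hQmul : ∀ a b, Q (a * b) = Q a * Q b := by
    intro a b
    by_cases ha : a = 0
    · simp [Q, ha, hQ00]
    by_cases hb : b = 0
    · simp [Q, hb, hQ00]
    obtain ⟨i, rfl⟩ := hl a ha
    obtain ⟨j, rfl⟩ := hl b hb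
    rw [← pow_add, hQpow, hQpow, hQpow, pow_add]
  have hQinj : ∀ v w, Q v = Q w → v = w := fun v w h => hQ0inj v w ((div_left_inj' hc₀0).1 h)
  -- the polar map is the commutator
  have hcI : ∀ x y : P, x⁻¹ * y⁻¹ * x * y ∈ I := fun x y =>
    (mem_center_iff_sq hd).1 (hcommmem x y)
  let Cm : P → P → F := fun x y => e' (Additive.ofMul ⟨y⁻¹ * x⁻¹ * y * x, hcI y x⟩)
  have hpolar : ∀ x y, S (x * y) = S x + S y + Cm x y := by
    intro x y
    simp only [S, Cm, ← map_add]
    refine congrArg e' (hext ?_)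
    show x * y * (x * y) = x * x * (y * y) * (y⁻¹ * x⁻¹ * y * x)
    have hc := Subgroup.mem_center_iff.1 (hcommmem y x)
    calc x * y * (x * y) = x * x * ((y * (y⁻¹ * x⁻¹ * y * x)) * y) := by group
      _ = x * x * ((y * y) * (y⁻¹ * x⁻¹ * y * x)) := by
        rw [mul_assoc y, ← hc y]; group
      _ = _ := by group
  let B0 : F → F → F := fun v w => Q (v + w) - Q v - Q w
  have hB0 : ∀ x y, B0 (π₀ x) (π₀ y) = Cm x y / c₀ := by
    intro x y
    simp only [B0, Q]
    rw [← hπ₀mul, ← hSQ, ← hSQ, ← hSQ, hpolar]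
    rw [← sub_div, ← sub_div]
    congr 1
    ring
  have hCm : ∀ x x' y, Cm (x * x') y = Cm x y + Cm x' y := by
    intro x x' y
    simp only [Cm, ← map_add]
    refine congrArg e' (hext ?_)
    show y⁻¹ * (x * x')⁻¹ * y * (x * x') = (y⁻¹ * x⁻¹ * y * x) * (y⁻¹ * x'⁻¹ * y * x')
    have hc := Subgroup.mem_center_iff.1 (hcommmem y x)
    calc y⁻¹ * (x * x')⁻¹ * y * (x * x')
        = (y⁻¹ * x'⁻¹ * y) * (y⁻¹ * x⁻¹ * y * x) * x' := by group
      _ = (y⁻¹ * x⁻¹ * y * x) * (y⁻¹ * x'⁻¹ * y) * x' := by rw [hc]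
      _ = _ := by group
  have hBadd : ∀ u v w, B0 (u + v) w = B0 u w + B0 v w := by
    intro u v w
    rw [← hlift u, ← hlift v, ← hlift w, ← hπ₀mul, hB0, hB0, hB0, hCm, add_div]
  have hBsymm : ∀ u v, B0 u v = B0 v u := fun u v => by simp only [B0]; rw [add_comm u v]; ring
  obtain ⟨d, hd'⟩ := FieldMaps.exists_coeff₂ 2 (AddMonoidHom.mk'
    (fun x => AddMonoidHom.mk' (B0 x) fun y y' => by rw [hBsymm, hBadd, hBsymm y, hBsymm y'])
    fun x x' => by ext y; exact hBadd x x' y)
  have hd'' : ∀ x y, B0 x y = ∑ a, ∑ b, d a b * (a x * b y) := hd'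
  have hB0ne : ∃ x y, B0 x y ≠ 0 := by
    obtain ⟨x, y, hxy⟩ := hd.noncomm
    refine ⟨π₀ x, π₀ y, fun h => hxy ?_⟩
    rw [hB0, div_eq_zero_iff] at h
    have h1 : e' (Additive.ofMul ⟨y⁻¹ * x⁻¹ * y * x, hcI y x⟩) = 0 := h.resolve_right hc₀0
    rw [AddEquiv.map_eq_zero_iff] at h1
    have h2 : y⁻¹ * x⁻¹ * y * x = 1 := congrArg (fun a : Additive I => (Additive.toMul a).1) h1
    calc x * y = x * y * (y⁻¹ * x⁻¹ * y * x) := by rw [h2, mul_one]
      _ = y * x := by group
  have hscale : ∀ s a b, d a b * (a s * b s - Q s) = 0 := by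
    intro s
    have h := FieldMaps.coeff₂_unique (d := fun a b => d a b * (a s * b s - Q s)) fun x y => by
      have h1 : ∑ a, ∑ b, d a b * (a (s * x) * b (s * y)) = Q s * ∑ a, ∑ b, d a b * (a x * b y) := by
        rw [← hd'', ← hd'']
        simp only [B0]
        rw [← mul_add, hQmul, hQmul, hQmul]
        ring
      rw [Finset.mul_sum] at h1
      simp only [Finset.mul_sum, map_mul] at h1
      rw [← sub_eq_zero.2 h1, ← Finset.sum_sub_distrib]
      refine Finset.sum_congr rfl fun a _ => ?_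
      rw [← Finset.sum_sub_distrib]
      exact Finset.sum_congr rfl fun b _ => by ring
    exact fun a b => congrFun (congrFun h a) b
  obtain ⟨α, β, hαβ⟩ : ∃ α β, d α β ≠ 0 := by
    by_contra h
    simp only [not_exists, not_not] at h
    obtain ⟨x, y, hxy⟩ := hB0ne
    exact hxy (by rw [hd'']; simp [h])
  set φ : F ≃+* F := β.trans α.symm with hφ
  have hQform : ∀ v, Q v = α (φ v * v) := fun v => by
    have := (mul_eq_zero.1 (hscale v α β)).resolve_left hαβ
    rw [sub_eq_zero] at this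
    rw [map_mul, hφ, RingEquiv.trans_apply, RingEquiv.apply_symm_apply, ← this, mul_comm]
  refine ⟨F, inferInstance, inferInstance, φ, hF, fun h => ?_, odd_order_of_injective φ fun u hu => ?_, ?_⟩
  · obtain ⟨x, y, hxy⟩ := hB0ne
    refine hxy ?_
    simp only [B0, hQform, h, RingEquiv.refl_apply]
    rw [← map_sub, ← map_sub, show (x + y) * (x + y) - x * x - y * y = (2 : F) * (x * y) by ring,
      (CharTwo.two_eq_zero : (2 : F) = 0), zero_mul, map_zero]
  · refine hQinj u 1 ?_
    rw [hQform, hQform, mul_comm, hu, map_one φ, mul_one]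
  -- the isomorphism
  let ι : Multiplicative F →* P :=
    { toFun := fun z => (Additive.toMul (e'.symm (c₀ * α (Multiplicative.toAdd z)))).1
      map_one' := by simp
      map_mul' := fun a b => by
        rw [toAdd_mul, map_add, mul_add, map_add]
        rfl }
  refine nonempty_iso_of_squares π (typeAFst (φ : F →+* F)) ?_ (typeAFst_surjective _) ?_ ι
    (typeAIncl _) ?_ (typeAIncl_injective _) ?_ (typeA_range_eq_ker _) ?_ (typeA_central _) ?_
  · intro v
    exact ⟨lift (Multiplicative.toAdd v), congrArg Multiplicative.ofAdd (hlift _)⟩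
  · intro v
    rw [← ofAdd_toAdd v, ← ofAdd_add, CharTwo.add_self_eq_zero, ofAdd_zero]
  · intro a b h
    have h1 := e'.symm.injective (hext h)
    exact Multiplicative.toAdd.injective (α.injective (mul_left_cancel₀ hc₀0 h1))
  · ext x
    rw [MonoidHom.mem_ker]
    constructor
    · rintro ⟨z, rfl⟩
      exact congrArg Multiplicative.ofAdd
        ((hπ₀iff _).2 ((mem_center_iff_sq hd).2 (Additive.toMul (e'.symm _)).2))
    · intro hx
      have hx' : x ∈ Z := (hπ₀iff x).1 (congrArg Multiplicative.toAdd hx)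
      refine ⟨Multiplicative.ofAdd (α.symm
        (e' (Additive.ofMul ⟨x, (mem_center_iff_sq hd).1 hx'⟩) / c₀)), ?_⟩
      show (Additive.toMul (e'.symm (c₀ * α (α.symm _)))).1 = x
      rw [RingEquiv.apply_symm_apply, mul_div_cancel₀ _ hc₀0, AddEquiv.symm_apply_apply]
      rfl
  · intro z x
    exact invol_central hd (Additive.toMul (e'.symm _)).2 x
  · intro x g hxg
    refine ⟨_, ?_, typeA_sq (φ : F →+* F) g⟩
    have h1 : Multiplicative.toAdd (typeAFst (φ : F →+* F) g) = π₀ x :=
      (congrArg Multiplicative.toAdd hxg).symm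
    show x * x = (Additive.toMul (e'.symm (c₀ * α ((φ : F →+* F) _ * _)))).1
    rw [h1, RingEquiv.coe_toRingHom, ← hQform]
    simp only [Q]
    rw [mul_div_cancel₀ _ hc₀0, ← hSQ]
    simp only [S, AddEquiv.symm_apply_apply]
    rfl

end Cfsg.Agent.Suzuki2
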